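import Cfsg.Agent.Mrg.Omega.ML.MinIrr
import Cfsg.Agent.ZN.Facts
import Cfsg.Agent.Mrg.Omega.FOne.ThmR.Main
import Cfsg.Agent.Involutions.BaerSuzuki
import Cfsg.Agent.Mrg.Omega.NO3S.FarB.Node
import Cfsg.Agent.Mrg.Omega.FOne.Act.Sym
import Cfsg.Agent.Mrg.Omega.FF.GlobEnd
import Cfsg.Agent.Mrg.Omega.ML.Ex.RowTitsX

-- merged: Cfsg.Agent.Mrg.Omega.FOne.QR.Def
section

section


/-!
# (F1), the K-route for `R` of any size (helper69)

`X` acts on the 𝔽₂-space `W` and centralises `R ≤ W`, `C_W(T) ≤ R`; `M = W / R` is faithful.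

* `cmR R B` : the preimage of `C_{W/R}(B)`;
* `FsR R θ T B` : THE FAITHFUL SECTION, additive form: `R`, `θ` instead of `{0, y}`, `θ`;
* `SwR R θ T N`, `AtR R N B` : the hypotheses of the reduction.
-/

set_option autoImplicit false
set_option linter.unusedSectionVars false

namespace Cfsg.Agent.Omega.FOne.QR

open Subgroup Cfsg Cfsg.Agent.ZN

universe u v

section

variable {X : Type u} [Group X] {W : Type v} [AddCommGroup W] [DistribMulAction X W]

/-- the preimage in `W` of the fixed points of `B` on `W / R` -/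
def cmR (R : AddSubgroup W) (B : Subgroup X) : AddSubgroup W where
  carrier := {w | ∀ b ∈ B, b • w + w ∈ R}
  zero_mem' := fun b _ => by rw [smul_zero, add_zero]; exact R.zero_mem
  add_mem' := by
    intro v w hv hw b hb
    rw [smul_add, add_add_add_comm]
    exact R.add_mem (hv b hb) (hw b hb)
  neg_mem' := by
    intro w hw b hb
    rw [smul_neg, ← neg_add]
    exact R.neg_mem (hw b hb)

theorem sub_eq_add_of {W : Type v} [AddCommGroup W] (two : ∀ w : W, w + w = 0) (a b : W) : a - b = a + b := by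
  rw [sub_eq_add_neg, neg_eq_of_add_eq_zero_left (two b)]

theorem mem_cmR {R : AddSubgroup W} {B : Subgroup X} {w : W} : w ∈ cmR R B ↔ ∀ b ∈ B, b • w + w ∈ R := Iff.rfl

theorem cmR_anti {R : AddSubgroup W} {B C : Subgroup X} (h : C ≤ B) : cmR R B ≤ cmR R C := fun _ hw b hb => hw b (h hb)

/-- **The faithful section**, additive form. -/
structure FsR (R : AddSubgroup W) (θ : W) (T B : Subgroup X) : Prop where
  known : IsKGroupWith IsKnownSimple' X
  finX : Finite X
  finW : Finite W
  two : ∀ w : W, w + w = 0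
  fixR : ∀ x : X, ∀ r ∈ R, x • r = r
  faith : ∀ x : X, (∀ w : W, x • w + w ∈ R) → x = 1
  T2 : IsPGroup 2 T
  syl : ¬ 2 ∣ T.index
  fixT : ∀ w : W, (∀ t ∈ T, t • w = w) → w ∈ R
  θR : θ ∉ R
  Tθ : ∀ t ∈ T, t • θ + θ ∈ R
  gen : ∀ U : AddSubgroup W, R ≤ U → (∀ x : X, x • θ ∈ U) → U = ⊤
  BT : B ≤ T
  sq : ∀ b ∈ B, b * b = 1
  quad : ∀ a ∈ B, ∀ b ∈ B, ∀ w : W, a • (b • w + w) + (b • w + w) ∈ R
  four : 4 ≤ Nat.card B
  exact : (cmR R B).index = Nat.card B
  atom : ∀ C : Subgroup X, C ≤ B → C ≠ ⊥ → C ≠ B → Nat.card C < (cmR R C).index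
  low : ∀ Q : Subgroup X, T ≤ Q → Q ≠ ⊤ → B ≤ o2 Q

/-- The hypotheses on `(H, W, R, θ, T, N)`. -/
structure SwR (R : AddSubgroup W) (θ : W) (T N : Subgroup X) : Prop where
  known : IsKGroupWith IsKnownSimple' X
  finX : Finite X
  finW : Finite W
  two : ∀ w : W, w + w = 0
  fixR : ∀ x : X, ∀ r ∈ R, x • r = r
  faith : ∀ x : X, (∀ w : W, x • w + w ∈ R) → x = 1
  T2 : IsPGroup 2 T
  syl : ¬ 2 ∣ T.index
  fixT : ∀ w : W, (∀ t ∈ T, t • w = w) → w ∈ R
  θR : θ ∉ R
  Tθ : ∀ t ∈ T, t • θ + θ ∈ R
  gen : ∀ U : AddSubgroup W, R ≤ U → (∀ x : X, x • θ ∈ U) → U = ⊤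
  N2 : IsPGroup 2 N
  Nθ : ∀ n ∈ N, n • θ + θ ∈ R
  Nn : ∀ x : X, x • θ + θ ∈ R → ∀ n ∈ N, x * n * x⁻¹ ∈ N

/-- an atom of order at least 4 in `N` -/
structure AtR (R : AddSubgroup W) (N B : Subgroup X) : Prop where
  BN : B ≤ N
  sq : ∀ b ∈ B, b * b = 1
  quad : ∀ a ∈ B, ∀ b ∈ B, ∀ w : W, a • (b • w + w) + (b • w + w) ∈ R
  four : 4 ≤ Nat.card B
  exact : (cmR R B).index = Nat.card B
  atom : ∀ C : Subgroup X, C ≤ B → C ≠ ⊥ → C ≠ B → Nat.card C < (cmR R C).index

end

/-! ### the action on `W / R`, multiplicatively -/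

section quo

variable {X : Type u} [Group X] {W : Type v} [AddCommGroup W] [DistribMulAction X W]

/-- `W / R`, written multiplicatively -/
abbrev MR (R : AddSubgroup W) : Type v := Multiplicative (W ⧸ R)

/-- the projection -/
def mk (R : AddSubgroup W) (w : W) : MR R := Multiplicative.ofAdd (QuotientAddGroup.mk w)

theorem mk_add (R : AddSubgroup W) (a b : W) : mk R (a + b) = mk R a * mk R b := rfl

theorem mk_zero (R : AddSubgroup W) : mk R 0 = 1 := rfl

theorem mk_surj {R : AddSubgroup W} (v : MR R) : ∃ w, mk R w = v := by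
  obtain ⟨w, hw⟩ := QuotientAddGroup.mk_surjective (Multiplicative.toAdd v)
  exact ⟨w, congrArg Multiplicative.ofAdd hw⟩

theorem mk_eq {R : AddSubgroup W} {a b : W} : mk R a = mk R b ↔ a - b ∈ R := by
  have h1 : mk R a = mk R b ↔ (QuotientAddGroup.mk a : W ⧸ R) = QuotientAddGroup.mk b := Iff.rfl
  rw [h1, QuotientAddGroup.eq, ← neg_mem_iff]
  have e : -(-a + b) = a - b := by abel
  rw [e]

theorem mk_eq' (two : ∀ w : W, w + w = 0) {R : AddSubgroup W} {a b : W} : mk R a = mk R b ↔ a + b ∈ R := by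
  rw [mk_eq, sub_eq_add_of two]

theorem mk_one {R : AddSubgroup W} {a : W} : mk R a = 1 ↔ a ∈ R := by
  rw [← mk_zero, mk_eq, sub_zero]

/-- the projection as a homomorphism -/
def mkH (R : AddSubgroup W) : Multiplicative W →* MR R := AddMonoidHom.toMultiplicative (QuotientAddGroup.mk' R)

theorem mkH_apply (R : AddSubgroup W) (w : W) : mkH R (Multiplicative.ofAdd w) = mk R w := rfl

theorem mkH_surj (R : AddSubgroup W) : Function.Surjective (mkH R) := fun v => by
  obtain ⟨w, hw⟩ := mk_surj v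
  exact ⟨Multiplicative.ofAdd w, hw⟩

/-- `X` acts on `W / R` -/
@[reducible] def act {R : AddSubgroup W} (hR : ∀ x : X, ∀ r ∈ R, x • r = r) : MulDistribMulAction X (MR R) where
  smul x v := Multiplicative.ofAdd (QuotientAddGroup.map R R (DistribSMul.toAddMonoidHom W x)
    (fun r hr => by
      rw [AddSubgroup.mem_comap, DistribSMul.toAddMonoidHom_apply, hR x r hr]; exact hr) (Multiplicative.toAdd v))
  one_smul v := by
    obtain ⟨w, rfl⟩ := mk_surj v
    change mk R ((1 : X) • w) = mk R w
    rw [one_smul]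
  mul_smul g h v := by
    obtain ⟨w, rfl⟩ := mk_surj v
    change mk R ((g * h) • w) = mk R (g • h • w)
    rw [mul_smul]
  smul_mul g v w := by
    obtain ⟨v, rfl⟩ := mk_surj v
    obtain ⟨w, rfl⟩ := mk_surj w
    change mk R (g • (v + w)) = mk R (g • v + g • w)
    rw [smul_add]
  smul_one g := by
    change mk R (g • (0 : W)) = mk R 0
    rw [smul_zero]

/-- an action of `X` on `W / R` which is the natural one -/
structure IsA (X : Type u) [Group X] {W : Type v} [AddCommGroup W] [DistribMulAction X W] (R : AddSubgroup W)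
    [MulDistribMulAction X (MR R)] : Prop where
  smul : ∀ (x : X) (w : W), x • mk R w = mk R (x • w)

theorem isA_act {R : AddSubgroup W} (hR : ∀ x : X, ∀ r ∈ R, x • r = r) : @IsA X _ W _ _ R (act hR) :=
  @IsA.mk X _ W _ _ R (act hR) fun _ _ => rfl

end quo

end Cfsg.Agent.Omega.FOne.QR

end

section


/-!
# (F1), `R` of any size: atoms (helper792, for `QR/Front.lean`)

* `exists_atom` : an exact group `A ≠ 1` whose subgroups are sub-exact contains an atom;
* `add_mem_of_two`, `dich_of_two` : `(cmR R B).index = 2`;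
* `card_cases` : a nontrivial 2-group has order 2 or at least 4.
-/

set_option autoImplicit false
set_option linter.unusedSectionVars false

namespace Cfsg.Agent.Omega.FOne.QR

open Subgroup Cfsg Cfsg.Agent.ZN

universe u v

variable {X : Type u} [Group X] {W : Type v} [AddCommGroup W] [DistribMulAction X W]

/-- **Atoms exist**: an exact group `A ≠ 1`, all whose subgroups are sub-exact, contains an atom. -/
theorem exists_atom [Finite X] {R : AddSubgroup W} {A : Subgroup X} (hA : A ≠ ⊥)
    (hex : (cmR R A).index = Nat.card A) (hno : ∀ C ≤ A, Nat.card C ≤ (cmR R C).index) :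
    ∃ B ≤ A, B ≠ ⊥ ∧ (cmR R B).index = Nat.card B ∧
      ∀ C : Subgroup X, C ≤ B → C ≠ ⊥ → C ≠ B → Nat.card C < (cmR R C).index := by
  classical
  have hex' : ∃ n : ℕ, ∃ C : Subgroup X, C ≤ A ∧ C ≠ ⊥ ∧ (cmR R C).index = Nat.card C ∧ Nat.card C = n :=
    ⟨Nat.card A, A, le_rfl, hA, hex, rfl⟩
  obtain ⟨B, hBA, hB1, hBex, hBn⟩ := Nat.find_spec hex'
  refine ⟨B, hBA, hB1, hBex, fun C hCB hC1 hCne => ?_⟩
  refine lt_of_le_of_ne (hno C (hCB.trans hBA)) fun heq => ?_
  have h1 : Nat.card C < Nat.card B := by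
    refine lt_of_le_of_ne (Nat.le_of_dvd Nat.card_pos (card_dvd_of_le hCB)) fun h => ?_
    exact hCne (Subgroup.eq_of_le_of_card_ge hCB h.ge)
  rw [hBn] at h1
  exact Nat.find_min hex' h1 ⟨C, hCB.trans hBA, hC1, heq.symm, rfl⟩

/-- `(cmR R B).index = 2`: the sum of two vectors outside is inside. -/
theorem add_mem_of_two {R : AddSubgroup W} {B : Subgroup X} (hix : (cmR R B).index = 2) {v w : W}
    (hv : v ∉ cmR R B) (hw : w ∉ cmR R B) : v + w ∈ cmR R B :=
  (AddSubgroup.add_mem_iff_of_index_two hix).2 (iff_of_false hv hw)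

/-- **The order-2 lemma**: if `B` has index 2 on `W / R`, every `b ∈ B` fixes one of `v`, `w`, `v + w` modulo `R`. -/
theorem dich_of_two {R : AddSubgroup W} {B : Subgroup X} (hix : (cmR R B).index = 2) {b : X} (hb : b ∈ B)
    (v w : W) : b • v + v ∈ R ∨ b • w + w ∈ R ∨ b • (v + w) + (v + w) ∈ R := by
  by_cases hv : v ∈ cmR R B
  · exact Or.inl (hv b hb)
  · by_cases hw : w ∈ cmR R B
    · exact Or.inr (Or.inl (hw b hb))
    · exact Or.inr (Or.inr (add_mem_of_two hix hv hw b hb))

/-- the same for all elements of `B` at once -/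
theorem dich_of_two' {R : AddSubgroup W} {B : Subgroup X} (hix : (cmR R B).index = 2) (v w : W) :
    v ∈ cmR R B ∨ w ∈ cmR R B ∨ v + w ∈ cmR R B := by
  by_cases hv : v ∈ cmR R B
  · exact Or.inl hv
  · by_cases hw : w ∈ cmR R B
    · exact Or.inr (Or.inl hw)
    · exact Or.inr (Or.inr (add_mem_of_two hix hv hw))

/-- A nontrivial 2-group has order 2 or at least 4. -/
theorem card_cases [Finite X] {B : Subgroup X} (h2 : IsPGroup 2 B) (hne : B ≠ ⊥) :
    Nat.card B = 2 ∨ 4 ≤ Nat.card B := by
  have : Fact (Nat.Prime 2) := ⟨Nat.prime_two⟩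
  obtain ⟨n, hn⟩ := IsPGroup.iff_card.1 h2
  rcases n with _ | _ | n
  · rw [pow_zero, Subgroup.card_eq_one] at hn
    exact absurd hn hne
  · exact Or.inl (by rw [hn]; norm_num)
  · right
    rw [hn]
    calc 4 = 2 ^ 2 := by norm_num
      _ ≤ 2 ^ (n + 1 + 1) := Nat.pow_le_pow_right (by norm_num) (by omega)

/-- an involution of a subgroup of order 2 generates it -/
theorem exists_gen_of_two {B : Subgroup X} (h2 : Nat.card B = 2) : ∃ b ∈ B, b ≠ 1 ∧ ∀ x ∈ B, x = 1 ∨ x = b := by
  have hfin : Finite B := Nat.finite_of_card_ne_zero (by omega)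
  have hne : B ≠ ⊥ := by
    rintro rfl
    rw [Subgroup.card_bot] at h2
    omega
  obtain ⟨⟨b, hb⟩, hb1⟩ := ne_bot_iff_exists_ne_one.1 hne
  refine ⟨b, hb, fun h => hb1 (Subtype.ext h), fun x hx => ?_⟩
  by_contra hcon
  push Not at hcon
  have h3 : 3 ≤ Nat.card B := by
    classical
    haveI := Fintype.ofFinite B
    rw [Nat.card_eq_fintype_card]
    have : ({(1 : B), ⟨b, hb⟩, ⟨x, hx⟩} : Finset B).card = 3 := by
      rw [Finset.card_eq_three]
      refine ⟨1, ⟨b, hb⟩, ⟨x, hx⟩, fun h => hb1 h.symm, fun h => hcon.1 (congrArg Subtype.val h).symm,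
        fun h => hcon.2 (congrArg Subtype.val h).symm, rfl⟩
    rw [← this]
    exact Finset.card_le_univ _
  omega

end Cfsg.Agent.Omega.FOne.QR

end

section


/-!
# (F1), the K-route for `R` of any size: the minimal overgroup, first part (helper69)

* `Bs`, `kk`, `sp` : `C_X(U / R)`, the preimage of `⟨z^X⟩`;
* `no_rel` : (ML) for `X ≤ H` on `⟨z^X⟩`;
* `SwR.dich` : an atom is trivial on `M_X` or `B ∩ K_X = 1`, `W = W_X + C(B)`;
* `SwR.le_o2_of_le` : an atom in `K_Q` is in `O₂(Q)`.
-/

set_option autoImplicit false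
set_option linter.unusedSectionVars false

namespace Cfsg.Agent.Omega.FOne.QR

open Subgroup Cfsg Cfsg.Agent.ZN
open Cfsg.Agent.Omega.ML.MinFrame (orb fxr)
open Cfsg.Agent.ClassTwoFusion.Quad (cv mem_cv)

universe u v

variable {H : Type u} [Group H] {W : Type v} [AddCommGroup W] [DistribMulAction H W]

/-- `R` is centralised by `H`, `W` has exponent 2 -/
structure Bs (H : Type u) [Group H] {W : Type v} [AddCommGroup W] [DistribMulAction H W] (R : AddSubgroup W) :
    Prop where
  two : ∀ w : W, w + w = 0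
  fixR : ∀ h : H, ∀ r ∈ R, h • r = r

/-- `{h : [U, h] ≤ R}` -/
def kk {R : AddSubgroup W} (b : Bs H R) (U : AddSubgroup W) : Subgroup H where
  carrier := {h | ∀ u ∈ U, h • u + u ∈ R}
  one_mem' := fun u _ => by rw [one_smul, b.two]; exact R.zero_mem
  mul_mem' := by
    intro g h hg hh u hu
    have e : (g * h) • u + u = g • (h • u + u) + (g • u + u) := by
      have h1 : g • u + g • u = 0 := b.two _
      rw [mul_smul, smul_add]
      calc g • h • u + u = g • h • u + (g • u + g • u) + u := by rw [h1, add_zero]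
        _ = _ := by abel
    rw [e, b.fixR g _ (hh u hu)]
    exact R.add_mem (hh u hu) (hg u hu)
  inv_mem' := by
    intro h hh u hu
    have e : h⁻¹ • u + u = h⁻¹ • (h • u + u) := by
      rw [smul_add, inv_smul_smul, add_comm]
    rw [e, b.fixR _ _ (hh u hu)]
    exact hh u hu

variable {R : AddSubgroup W} (b : Bs H R)

theorem mem_kk {U : AddSubgroup W} {h : H} : h ∈ kk b U ↔ ∀ u ∈ U, h • u + u ∈ R := Iff.rfl

include b in
/-- the elements fixed by `h` modulo `R` -/
theorem fix_mod {h : H} {w : W} : h • w + w ∈ R ↔ ∃ r ∈ R, h • w = w + r := by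
  constructor
  · intro hh
    refine ⟨_, hh, ?_⟩
    rw [add_left_comm, b.two, add_zero]
  · rintro ⟨r, hr, e⟩
    rw [e, add_right_comm, b.two, zero_add]
    exact hr

theorem kk_conj {U : AddSubgroup W} {x k : H} (hU : ∀ u ∈ U, x⁻¹ • u ∈ U) (hk : k ∈ kk b U) :
    x * k * x⁻¹ ∈ kk b U := by
  intro u hu
  have e : (x * k * x⁻¹) • u + u = x • (k • x⁻¹ • u + x⁻¹ • u) := by
    rw [smul_add, smul_inv_smul, mul_smul, mul_smul]
  rw [e, b.fixR _ _ (hk _ (hU u hu))]
  exact hk _ (hU u hu)

/-- the preimage of `⟨z^X⟩` -/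
def sp (R : AddSubgroup W) (X : Subgroup H) (z : W) : AddSubgroup W :=
  AddSubgroup.closure ((R : Set W) ∪ {w | ∃ x ∈ X, w = x • z})

theorem le_sp (R : AddSubgroup W) (X : Subgroup H) (z : W) : R ≤ sp R X z := fun _ hr =>
  AddSubgroup.subset_closure (Or.inl hr)

theorem smul_mem_sp' (R : AddSubgroup W) {X : Subgroup H} (z : W) {x : H} (hx : x ∈ X) : x • z ∈ sp R X z :=
  AddSubgroup.subset_closure (Or.inr ⟨x, hx, rfl⟩)

theorem mem_sp (R : AddSubgroup W) (X : Subgroup H) (z : W) : z ∈ sp R X z := by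
  have := smul_mem_sp' R z X.one_mem
  rwa [one_smul] at this

theorem sp_le {U : AddSubgroup W} {X : Subgroup H} {z : W} (hR : R ≤ U) (hU : ∀ x ∈ X, x • z ∈ U) : sp R X z ≤ U := by
  rw [sp, AddSubgroup.closure_le]
  rintro w (hw | ⟨x, hx, rfl⟩)
  · exact hR hw
  · exact hU x hx

include b in
theorem smul_mem_sp {X : Subgroup H} {z : W} {x : H} (hx : x ∈ X) {u : W} (hu : u ∈ sp R X z) :
    x • u ∈ sp R X z := by
  have h1 : sp R X z ≤ (sp R X z).comap (DistribSMul.toAddMonoidHom W x) := by
    refine sp_le ?_ ?_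
    · intro r hr
      change x • r ∈ sp R X z
      rw [b.fixR x r hr]
      exact le_sp R X z hr
    · intro y hy
      change x • y • z ∈ sp R X z
      rw [← mul_smul]
      exact smul_mem_sp' R z (X.mul_mem hx hy)
  exact h1 hu

theorem mem_kk_sp {X : Subgroup H} {z : W} {h : H} : h ∈ kk b (sp R X z) ↔ ∀ x ∈ X, h • x • z + x • z ∈ R := by
  constructor
  · intro hh x hx
    exact hh _ (smul_mem_sp' R z hx)
  · intro hh u hu
    let U : AddSubgroup W :=
      { carrier := {w | h • w + w ∈ R}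
        zero_mem' := by
          change h • (0 : W) + 0 ∈ R
          rw [smul_zero, add_zero]; exact R.zero_mem
        add_mem' := by
          intro v w hv hw
          change h • (v + w) + (v + w) ∈ R
          rw [smul_add, add_add_add_comm]
          exact R.add_mem hv hw
        neg_mem' := by
          intro w hw
          change h • (-w) + -w ∈ R
          rw [smul_neg, ← neg_add]
          exact R.neg_mem hw }
    have h1 : sp R X z ≤ U := by
      refine sp_le ?_ hh
      intro r hr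
      change h • r + r ∈ R
      rw [b.fixR h r hr, b.two]
      exact R.zero_mem
    exact h1 hu

theorem kk_norm {X : Subgroup H} {z : W} {x k : H} (hx : x ∈ X) (hk : k ∈ kk b (sp R X z)) :
    x * k * x⁻¹ ∈ kk b (sp R X z) :=
  kk_conj b (fun _ hu => smul_mem_sp b (X.inv_mem hx) hu) hk

/-- **(ML) for `X ≤ H` on the submodule generated by `z` modulo `R`** -/
theorem no_rel (hML : ML.Final.MLK.{u, v}) [Finite H] [Finite W] (hK : IsKGroupWith IsKnownSimple' H)
    {X T Q A : Subgroup H} {z : W} (TX : T ≤ X) (T2 : IsPGroup 2 T) (syl : ¬ 2 ∣ T.relIndex X)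
    (Tz : ∀ t ∈ T, t • z + z ∈ R) (QX : Q ≤ X) (Q2 : IsPGroup 2 Q) (Qz : ∀ q ∈ Q, q • z + z ∈ R)
    (Qn : ∀ x ∈ X, x • z + z ∈ R → ∀ q ∈ Q, x * q * x⁻¹ ∈ Q) (AQ : A ≤ Q) (sq : ∀ a ∈ A, a * a = 1) :
    (kk b (sp R X z)).relIndex A ≤ (cmR R A).relIndex (sp R X z) := by
  classical
  letI := act (X := X) (R := R) fun x r hr => b.fixR x r hr
  have hfin : Finite (MR R) := Finite.of_surjective (mkH R) (mkH_surj R)
  have hsm : ∀ (x : X) (w : W), x • mk R w = mk R ((x : H) • w) := fun _ _ => rfl
  have AX : A ≤ X := AQ.trans QX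
  have D : ML.Final.Dat (C := X) (V := MR R) (T.subgroupOf X) (Q.subgroupOf X) (A.subgroupOf X) (mk R z) := by
    refine ⟨?_, T2.of_equiv (subgroupOfEquivOfLe TX).symm, syl, ?_, ?_, ?_, ?_, ?_, ?_⟩
    · intro v
      obtain ⟨w, rfl⟩ := mk_surj v
      rw [← mk_add, b.two, mk_zero]
    · intro t ht
      rw [hsm, mk_eq' b.two]
      exact Tz _ ht
    · intro q hq
      obtain ⟨n, hn⟩ := Q2 ⟨q, hq⟩
      refine ⟨n, fun v => ?_⟩
      have h2 : (q : H) ^ 2 ^ n = 1 := congrArg Subtype.val hn
      have h1 : q ^ 2 ^ n = 1 := Subtype.ext h2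
      rw [h1, one_smul]
    · intro q hq
      rw [hsm, mk_eq' b.two]
      exact Qz _ hq
    · intro g hg q hq
      rw [hsm, mk_eq' b.two] at hg
      exact ⟨g * q * g⁻¹, Qn g g.2 hg q hq, fun _ => rfl⟩
    · intro a ha
      exact ⟨a, AQ ha, fun _ => rfl⟩
    · intro a ha v
      have h1 : a * a = 1 := Subtype.ext (sq a ha)
      rw [← mul_smul, h1, one_smul]
  have key := hML.act (ML.Final.kgroup_of_surj hK X (MonoidHom.id X) fun x => ⟨x, rfl⟩) D
  have horb : orb (⊤ : Subgroup X) (mk R z) = (AddSubgroup.toSubgroup (sp R X z)).map (mkH R) := by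
    apply le_antisymm
    · rw [orb, closure_le]
      rintro _ ⟨g, -, rfl⟩
      exact ⟨Multiplicative.ofAdd ((g : H) • z), smul_mem_sp' R z g.2, rfl⟩
    · rw [map_le_iff_le_comap]
      intro w hw
      let U : AddSubgroup W :=
        { carrier := {w | mk R w ∈ orb (⊤ : Subgroup X) (mk R z)}
          zero_mem' := by
            change mk R 0 ∈ orb (⊤ : Subgroup X) (mk R z)
            rw [mk_zero]; exact one_mem _
          add_mem' := by
            intro v w hv hw
            change mk R (v + w) ∈ orb (⊤ : Subgroup X) (mk R z)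
            rw [mk_add]
            exact mul_mem hv hw
          neg_mem' := by
            intro w hw
            have : mk R (-w) = (mk R w)⁻¹ := rfl
            change mk R (-w) ∈ orb (⊤ : Subgroup X) (mk R z)
            rw [this]
            exact inv_mem hw }
      have h1 : sp R X z ≤ U := by
        refine sp_le ?_ ?_
        · intro r hr
          change mk R r ∈ orb (⊤ : Subgroup X) (mk R z)
          rw [mk_one.2 hr]; exact one_mem _
        · intro x hx
          exact subset_closure ⟨⟨x, hx⟩, mem_top _, rfl⟩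
      exact h1 hw
  have hcv : (cv (MR R) ((A.subgroupOf X : Subgroup X) : Set X)).comap (mkH R) =
      AddSubgroup.toSubgroup (cmR R A) := by
    ext w
    rw [mem_comap, mem_cv]
    change (∀ a ∈ (A.subgroupOf X : Set X), a • mk R (Multiplicative.toAdd w) = mk R (Multiplicative.toAdd w)) ↔
      Multiplicative.toAdd w ∈ cmR R A
    rw [mem_cmR]
    constructor
    · intro h3 a ha
      have h4 := h3 ⟨a, AX ha⟩ ha
      rw [hsm, mk_eq' b.two] at h4
      exact h4
    · intro h3 a ha
      rw [hsm, mk_eq' b.two]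
      exact h3 _ ha
  have hfx : fxr X (orb (⊤ : Subgroup X) (mk R z)) = (kk b (sp R X z)).subgroupOf X := by
    ext x
    rw [mem_subgroupOf, horb]
    constructor
    · intro hx u hu
      have h1 := hx (mk R u) ⟨Multiplicative.ofAdd u, hu, rfl⟩
      rw [hsm, mk_eq' b.two] at h1
      exact h1
    · rintro hx _ ⟨u, hu, rfl⟩
      change x • mk R (Multiplicative.toAdd u) = mk R (Multiplicative.toAdd u)
      rw [hsm, mk_eq' b.two]
      exact hx _ hu
  rw [hfx, relIndex_subgroupOf AX, horb, ← relIndex_comap, hcv] at key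
  exact key

end Cfsg.Agent.Omega.FOne.QR

end

section


/-!
# (F1), the K-route for `R` of any size: the minimal overgroup, second part (helper69)

* `SwR.no` : (NO) on `W / R`;
* `SwR.dich` : an atom is trivial on `M_X` or `B ∩ K_X = 1`, `W = W_X + C(B)`;
* `SwR.exists_min` : the minimal overgroup `X` on which some atom `B` is not trivial;
* `MinX` : its properties.
-/

set_option autoImplicit false
set_option linter.unusedSectionVars false

namespace Cfsg.Agent.Omega.FOne.QR

open Subgroup Cfsg Cfsg.Agent.ZN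

universe u v

variable {H : Type u} [Group H] {W : Type v} [AddCommGroup W] [DistribMulAction H W]
  {R : AddSubgroup W} {θ : W} {T N : Subgroup H}

theorem SwR.bs (S : SwR R θ T N) : Bs H R := ⟨S.two, S.fixR⟩

theorem SwR.sylX (S : SwR R θ T N) {X : Subgroup H} (hTX : T ≤ X) : ¬ 2 ∣ T.relIndex X := fun h =>
  S.syl (h.trans (relIndex_dvd_index_of_le hTX))

/-- `N ≤ T` -/
theorem SwR.NT (S : SwR R θ T N) : N ≤ T := by
  have := S.finX
  have : Fact (Nat.Prime 2) := ⟨Nat.prime_two⟩
  have h1 : IsPGroup 2 (T ⊔ N : Subgroup H) := by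
    refine IsPGroup.to_sup_of_normal_right' S.T2 S.N2 fun t ht => ?_
    rw [mem_normalizer_iff]
    intro n
    constructor
    · exact S.Nn t (S.Tθ t ht) n
    · intro hn
      have := S.Nn t⁻¹ (S.Tθ _ (T.inv_mem ht)) _ hn
      have e : t⁻¹ * (t * n * t⁻¹) * t⁻¹⁻¹ = n := by group
      rwa [e] at this
  have h2 : T ⊔ N = T := (S.T2.toSylow S.syl).is_maximal' h1 le_sup_left
  calc N ≤ T ⊔ N := le_sup_right
    _ = T := h2

theorem SwR.sp_top (S : SwR R θ T N) : sp R (⊤ : Subgroup H) θ = ⊤ :=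
  S.gen _ (le_sp R _ θ) fun x => smul_mem_sp' R θ (mem_top x)

theorem SwR.kk_top (S : SwR R θ T N) : kk S.bs (sp R (⊤ : Subgroup H) θ) = ⊥ := by
  rw [eq_bot_iff]
  intro x hx
  rw [S.sp_top] at hx
  exact mem_bot.2 (S.faith x fun w => hx w (AddSubgroup.mem_top w))

/-- (ML) for `T ≤ X` -/
theorem SwR.rel (S : SwR R θ T N) (hML : ML.Final.MLK.{u, v}) {X A : Subgroup H} (hTX : T ≤ X) (AN : A ≤ N)
    (sq : ∀ a ∈ A, a * a = 1) : (kk S.bs (sp R X θ)).relIndex A ≤ (cmR R A).relIndex (sp R X θ) := by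
  have := S.finX
  have := S.finW
  exact no_rel S.bs hML S.known hTX S.T2 (S.sylX hTX) S.Tθ (S.NT.trans hTX) S.N2 S.Nθ (fun x _ => S.Nn x) AN sq

/-- **(NO)** on `W / R` -/
theorem SwR.no (S : SwR R θ T N) (hML : ML.Final.MLK.{u, v}) {A : Subgroup H} (AN : A ≤ N)
    (sq : ∀ a ∈ A, a * a = 1) : Nat.card A ≤ (cmR R A).index := by
  have h := S.rel hML (X := ⊤) le_top AN sq
  rw [S.kk_top, S.sp_top, relIndex_bot_left, AddSubgroup.relIndex_top_right] at h
  exact h

/-- **(1)** : an atom is trivial on `M_X`, or faithful on it with `W = W_X + C(B)`. -/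
theorem SwR.dich (S : SwR R θ T N) (hML : ML.Final.MLK.{u, v}) {X B : Subgroup H} (hTX : T ≤ X) (hB : AtR R N B) :
    B ≤ kk S.bs (sp R X θ) ∨ (B ⊓ kk S.bs (sp R X θ) = ⊥ ∧ sp R X θ ⊔ cmR R B = ⊤) := by
  have := S.finX
  have := S.finW
  set K := kk S.bs (sp R X θ) with hK
  set D := B ⊓ K with hD
  have h1 : K.relIndex B ≤ (cmR R B).relIndex (sp R X θ) := S.rel hML hTX hB.BN hB.sq
  have h2 : K.relIndex B * Nat.card D = Nat.card B := by
    have h3 : (K.subgroupOf B).index * Nat.card (K.subgroupOf B) = Nat.card B := index_mul_card _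
    have h4 : Nat.card (K.subgroupOf B) = Nat.card D := by
      rw [hD, ← inf_subgroupOf_left K B]
      exact Nat.card_congr (subgroupOfEquivOfLe inf_le_left).toEquiv
    rw [h4] at h3
    exact h3
  have hUD : sp R X θ ≤ cmR R D := fun u hu d hd => hd.2 u hu
  have hBD : cmR R B ≤ cmR R D := cmR_anti inf_le_left
  have h3 : (cmR R B).relIndex (sp R X θ) ≤ (cmR R B).relIndex (cmR R D) :=
    AddSubgroup.relIndex_le_of_le_right hUD AddSubgroup.index_ne_zero_of_finite
  have h4 : (cmR R B).relIndex (cmR R D) * (cmR R D).index = Nat.card B := by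
    rw [AddSubgroup.relIndex_mul_index hBD, hB.exact]
  have hpos : 0 < K.relIndex B := Nat.pos_of_ne_zero index_ne_zero_of_finite
  by_cases hDB : D = B
  · left
    rw [← hDB]
    exact inf_le_right
  by_cases hD0 : D = ⊥
  · right
    refine ⟨hD0, ?_⟩
    rw [hD0, card_bot, mul_one] at h2
    have h5 : (cmR R B).relIndex (sp R X θ ⊔ cmR R B) * (sp R X θ ⊔ cmR R B).index = (cmR R B).index :=
      AddSubgroup.relIndex_mul_index le_sup_right
    rw [AddSubgroup.relIndex_sup_right, hB.exact] at h5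
    rw [← AddSubgroup.index_eq_one]
    have h6 : 0 < (sp R X θ ⊔ cmR R B).index := Nat.pos_of_ne_zero AddSubgroup.index_ne_zero_of_finite
    by_contra h7
    have h8 : 2 ≤ (sp R X θ ⊔ cmR R B).index := by omega
    have h9 : (cmR R B).relIndex (sp R X θ) * 2 ≤ Nat.card B := by
      rw [← h5]; exact Nat.mul_le_mul_left _ h8
    omega
  · exfalso
    have h5 := hB.atom D inf_le_left hD0 hDB
    have h6 : Nat.card B < (cmR R B).relIndex (cmR R D) * (cmR R D).index := by
      calc Nat.card B = K.relIndex B * Nat.card D := h2.symm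
        _ < K.relIndex B * (cmR R D).index := Nat.mul_lt_mul_of_pos_left h5 hpos
        _ ≤ (cmR R B).relIndex (cmR R D) * (cmR R D).index := Nat.mul_le_mul_right _ (h1.trans h3)
    omega

/-- an atom which is trivial on `M_Q` lies in `O₂(Q)` -/
theorem SwR.le_o2_of_le (S : SwR R θ T N) {Q B : Subgroup H} (hTQ : T ≤ Q) (hBN : B ≤ N)
    (hB : B ≤ kk S.bs (sp R Q θ)) : B ≤ o2 Q := by
  set K := kk S.bs (sp R Q θ) ⊓ Q with hK
  have hKθ : ∀ k ∈ K, k • θ + θ ∈ R := fun k hk => hk.1 θ (mem_sp R Q θ)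
  have h1 : N ⊓ K ≤ o2 K := by
    refine le_o2 inf_le_right (S.N2.to_le inf_le_left) fun k hk => ?_
    rw [mem_normalizer_iff]
    intro n
    constructor
    · intro hn
      exact ⟨S.Nn k (hKθ k hk) n hn.1, K.mul_mem (K.mul_mem hk hn.2) (K.inv_mem hk)⟩
    · intro hn
      have h2 := S.Nn k⁻¹ (hKθ _ (K.inv_mem hk)) _ hn.1
      have h3 := K.mul_mem (K.mul_mem (K.inv_mem hk) hn.2) (K.inv_mem (K.inv_mem hk))
      have e : k⁻¹ * (k * n * k⁻¹) * k⁻¹⁻¹ = n := by group
      rw [e] at h2 h3
      exact ⟨h2, h3⟩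
  have h2 : Q ≤ normalizer (K : Set H) := by
    intro q hq
    rw [mem_normalizer_iff]
    intro k
    constructor
    · intro hk
      exact ⟨kk_norm S.bs hq hk.1, Q.mul_mem (Q.mul_mem hq hk.2) (Q.inv_mem hq)⟩
    · intro hk
      have h2 := kk_norm S.bs (Q.inv_mem hq) hk.1
      have h3 := Q.mul_mem (Q.mul_mem (Q.inv_mem hq) hk.2) (Q.inv_mem (Q.inv_mem hq))
      have e : q⁻¹ * (q * k * q⁻¹) * q⁻¹⁻¹ = k := by group
      rw [e] at h2 h3
      exact ⟨h2, h3⟩
  have h3 : o2 K ≤ o2 Q := le_o2 ((o2_le K).trans inf_le_right) (isPGroup_o2 K)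
    (h2.trans (normalizer_le_normalizer_o2 K))
  exact (le_inf hBN (le_inf hB ((hBN.trans S.NT).trans hTQ))).trans (h1.trans h3)

/-- **The minimal overgroup.** -/
structure MinX (R : AddSubgroup W) (θ : W) (T N : Subgroup H) (b : Bs H R) (X B : Subgroup H) : Prop where
  TX : T ≤ X
  at_ : AtR R N B
  nt : ¬ B ≤ kk b (sp R X θ)
  min : ∀ Q : Subgroup H, T ≤ Q → Q ≤ X → Q ≠ X → ∀ C, AtR R N C → C ≤ kk b (sp R Q θ)

theorem SwR.exists_min (S : SwR R θ T N) {B : Subgroup H} (hB : AtR R N B) :
    ∃ X B' : Subgroup H, MinX R θ T N S.bs X B' := by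
  have := S.finX
  have hfin : Finite (Subgroup H) := inferInstance
  obtain ⟨X, hX⟩ := (Set.toFinite {X : Subgroup H | T ≤ X ∧ ∃ C, AtR R N C ∧ ¬ C ≤ kk S.bs (sp R X θ)}).exists_minimal
    ⟨⊤, le_top, B, hB, fun h => by
      rw [S.kk_top, le_bot_iff] at h
      have h4 := hB.four
      rw [h, card_bot] at h4
      omega⟩
  obtain ⟨hTX, C, hC, hCX⟩ := hX.prop
  refine ⟨X, C, hTX, hC, hCX, fun Q hTQ hQX hne C' hC' => ?_⟩
  by_contra hcon
  exact hne (le_antisymm hQX (hX.le_of_le (y := Q) ⟨hTQ, C', hC', hcon⟩ hQX))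

end Cfsg.Agent.Omega.FOne.QR

end

section


/-!
# (F1), the K-route for `R` of any size: the vector `θ_n` (helper69)

* `exists_norm` : the product of an odd orbit;
* `min_sup_eq` : `X = ⟨B^X⟩ T`;
* `min_exists_vec` : `θ_s`, fixed by `X` modulo `R`, with `θ + θ_s ∈ [W_X, ⟨B^X⟩] R`;
* `min_thmA` : `K_X` centralises `[W_X, ⟨B^X⟩]`.
-/

set_option autoImplicit false
set_option linter.unusedSectionVars false
set_option linter.style.haveILetI false

namespace Cfsg.Agent.Omega.FOne.QR

open Subgroup Cfsg Cfsg.Agent.ZN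

universe u v

section norm

variable {G : Type*} [Group G] {M : Type*} [CommGroup M] [MulDistribMulAction G M]

/-- the product of an orbit of odd length -/
theorem exists_norm [Finite M] (sq : ∀ m : M, m * m = 1) {T L : Subgroup G}
    (hn : ∀ t ∈ T, ∀ k ∈ L, t * k * t⁻¹ ∈ L) (hodd : ¬ 2 ∣ T.relIndex L) {m : M} (hm : ∀ t ∈ T, t • m = m) :
    ∃ s : M, (∀ k ∈ L, k • s = s) ∧ (∀ t ∈ T, t • s = s) ∧
      m * s ∈ Subgroup.closure {x | ∃ k ∈ L, x = (k • m) * m} := by
  classical
  haveI : Fintype (MulAction.orbit L m) := Fintype.ofFinite _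
  have hcard : ¬ 2 ∣ Fintype.card (MulAction.orbit L m) := by
    intro h
    apply hodd
    have e : Fintype.card (MulAction.orbit L m) = (MulAction.stabilizer L m).index := by
      rw [← Nat.card_eq_fintype_card]
      exact Nat.card_congr (MulAction.orbitEquivQuotientStabilizer L m)
    have hle : T.subgroupOf L ≤ MulAction.stabilizer L m := by
      intro x hx
      rw [MulAction.mem_stabilizer_iff]
      exact hm _ (mem_subgroupOf.mp hx)
    rw [e] at h
    exact h.trans (index_dvd_of_le hle)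
  refine ⟨∏ x : MulAction.orbit L m, (x : M), ?_, ?_, ?_⟩
  · intro k hk
    rw [Finset.smul_prod']
    exact Fintype.prod_equiv (MulAction.toPerm (⟨k, hk⟩ : L)) _ _ (fun x => rfl)
  · intro t ht
    rw [Finset.smul_prod']
    have hmem : ∀ x ∈ MulAction.orbit L m, t • x ∈ MulAction.orbit L m := by
      rintro _ ⟨k, rfl⟩
      refine ⟨⟨t * k * t⁻¹, hn t ht k k.2⟩, ?_⟩
      change (t * k * t⁻¹) • m = t • ((k : G) • m)
      rw [mul_smul, mul_smul, hm t⁻¹ (T.inv_mem ht)]
    have hinj : Function.Injective (fun x : MulAction.orbit L m =>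
        (⟨t • (x : M), hmem x x.2⟩ : MulAction.orbit L m)) := by
      intro x x' h
      exact Subtype.ext (MulAction.injective t (congrArg Subtype.val h))
    exact Fintype.prod_bijective _ (Finite.injective_iff_bijective.mp hinj) _ _ (fun x => rfl)
  · have hpow : m ^ Fintype.card (MulAction.orbit L m) = m := by
      obtain ⟨j, hj⟩ := Nat.not_even_iff_odd.mp (fun h => hcard (even_iff_two_dvd.mp h))
      rw [hj, pow_succ, pow_mul, sq_mul_self sq, one_pow, one_mul]
    have e : m * ∏ x : MulAction.orbit L m, (x : M) = ∏ x : MulAction.orbit L m, (x : M) * m := by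
      rw [Finset.prod_mul_distrib, Finset.prod_const, Finset.card_univ, hpow, mul_comm]
    rw [e]
    refine Subgroup.prod_mem _ fun x _ => ?_
    obtain ⟨k, hk⟩ := x.2
    exact Subgroup.subset_closure ⟨k, k.2, by rw [← hk]; rfl⟩
where
  sq_mul_self {m : M} (sq : ∀ m : M, m * m = 1) : m ^ 2 = 1 := by rw [pow_two, sq]

end norm

variable {H : Type u} [Group H] {W : Type v} [AddCommGroup W] [DistribMulAction H W]
  {R : AddSubgroup W} {θ : W} {T N X B : Subgroup H}

/-- `⟨B^X⟩` -/
def LX (X B : Subgroup H) : Subgroup H := Subgroup.closure {y | ∃ x ∈ X, ∃ c ∈ B, y = x * c * x⁻¹}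

theorem LX_le (hBX : B ≤ X) : LX X B ≤ X := by
  rw [LX, closure_le]
  rintro _ ⟨x, hx, c, hc, rfl⟩
  exact X.mul_mem (X.mul_mem hx (hBX hc)) (X.inv_mem hx)

theorem le_LX : B ≤ LX X B := fun c hc => subset_closure ⟨1, X.one_mem, c, hc, by group⟩

theorem LX_conj {x g : H} (hx : x ∈ X) (hg : g ∈ LX X B) : x * g * x⁻¹ ∈ LX X B := by
  have h1 : LX X B ≤ (LX X B).comap (MulAut.conj x).toMonoidHom := by
    conv_lhs => rw [LX]
    rw [closure_le]
    rintro _ ⟨y, hy, c, hc, rfl⟩
    refine subset_closure ⟨x * y, X.mul_mem hx hy, c, hc, ?_⟩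
    change x * (y * c * y⁻¹) * x⁻¹ = x * y * c * (x * y)⁻¹
    group
  exact h1 hg

theorem le_normalizer_LX : X ≤ normalizer (LX X B : Set H) := by
  intro x hx
  rw [mem_normalizer_iff]
  intro g
  constructor
  · exact LX_conj hx
  · intro hg
    have := LX_conj (X.inv_mem hx) hg
    have e : x⁻¹ * (x * g * x⁻¹) * x⁻¹⁻¹ = g := by group
    rwa [e] at this

section min

variable (S : SwR R θ T N) (M : MinX R θ T N S.bs X B)

include M

theorem min_BX : B ≤ X := (M.at_.BN.trans S.NT).trans M.TX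

/-- (a) `X = ⟨B^X⟩ T` -/
theorem min_sup_eq : LX X B ⊔ T = X := by
  have := S.finX
  have hle : LX X B ⊔ T ≤ X := sup_le (LX_le (min_BX S M)) M.TX
  by_contra hne
  set Y := LX X B ⊔ T with hY
  have h1 : B ≤ kk S.bs (sp R Y θ) := M.min Y le_sup_right hle hne B M.at_
  have h2 : B ≤ o2 Y := S.le_o2_of_le le_sup_right M.at_.BN h1
  have h3 : o2 Y ⊓ LX X B ≤ o2 (LX X B) := by
    refine le_o2 inf_le_right ((isPGroup_o2 Y).to_le inf_le_left) ?_
    intro l hl
    have h4 := le_normalizer_o2 Y ((le_sup_left : LX X B ≤ Y) hl)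
    rw [mem_normalizer_iff] at h4 ⊢
    intro g
    constructor
    · intro hg
      exact ⟨(h4 g).1 hg.1, (LX X B).mul_mem ((LX X B).mul_mem hl hg.2) ((LX X B).inv_mem hl)⟩
    · intro hg
      have h5 := (LX X B).mul_mem ((LX X B).mul_mem ((LX X B).inv_mem hl) hg.2) hl
      have e : l⁻¹ * (l * g * l⁻¹) * l = g := by group
      rw [e] at h5
      exact ⟨(h4 g).2 hg.1, h5⟩
  have h4 : o2 (LX X B) ≤ o2 X := le_o2 ((o2_le _).trans (LX_le (min_BX S M))) (isPGroup_o2 _)
    (le_normalizer_LX.trans (normalizer_le_normalizer_o2 _))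
  have h5 : B ≤ o2 X := (le_inf h2 le_LX).trans (h3.trans h4)
  have h6 : o2 X ≤ T := o2_le_of_sylow M.TX S.T2 (S.sylX M.TX)
  apply M.nt
  intro c hc
  rw [mem_kk_sp]
  intro x hx
  have h7 : x⁻¹ * c * x ∈ o2 X := by
    have h8 := (mem_normalizer_iff.1 (le_normalizer_o2 X (X.inv_mem hx)) c).1 (h5 hc)
    rwa [inv_inv] at h8
  have h8 := S.Tθ _ (h6 h7)
  have e : c • x • θ + x • θ = x • ((x⁻¹ * c * x) • θ + θ) := by
    rw [smul_add, mul_smul, mul_smul, smul_inv_smul]
  rw [e, S.fixR x _ h8]
  exact h8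

/-- the frame of THEOREM A -/
theorem min_dat (hML : ML.Final.MLK.{u, v}) : ThmR.Dat X T N B R (sp R X θ) θ := by
  have hd := (S.dich hML M.TX M.at_).resolve_left M.nt
  refine
    { two := S.two
      fixR := S.fixR
      faith := S.faith
      TX := M.TX
      T2 := S.T2
      syl := S.sylX M.TX
      BO := M.at_.BN
      BX := (min_BX S M)
      sqB := M.at_.sq
      quad := fun b hb c hc w => M.at_.quad c hc b hb w
      no := fun E hE hsq => S.no hML hE hsq
      ex := M.at_.exact.symm
      min := fun E hE hne hex => ?_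
      RV := le_sp R X θ
      XV := fun x hx v hv => smul_mem_sp S.bs hx hv
      gen := fun U hR hU => sp_le hR hU
      lamV := mem_sp R X θ
      Tlam := S.Tθ
      nO := fun h hh o ho => S.Nn h hh o ho
      cover := fun w => ?_ }
  · by_contra hcon
    have := M.at_.atom E hE hne hcon
    exact absurd hex (Nat.ne_of_lt this)
  · have h1 : w ∈ sp R X θ ⊔ cmR R B := by rw [hd.2]; exact AddSubgroup.mem_top w
    obtain ⟨v, hv, c, hc, e⟩ := AddSubgroup.mem_sup.1 h1
    refine ⟨v, hv, ?_⟩
    have e2 : w + v = c := by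
      rw [← e]
      calc v + c + v = (v + v) + c := by abel
        _ = c := by rw [S.two, zero_add]
    rw [e2]
    exact hc

/-- **THEOREM A** for the minimal overgroup -/
theorem min_thmA (hML : ML.Final.MLK.{u, v}) {k l : H} {w : W} (hk : k ∈ X) (hkK : k ∈ kk S.bs (sp R X θ))
    (hl : l ∈ LX X B) (hw : w ∈ sp R X θ) : k • (l • w + w) = l • w + w := by
  have := S.finX
  have := S.finW
  have h1 := (min_dat S M hML).main M.at_.four l hl k hk (fun v hv => hkK v hv) w hw
  have h2 : k • (l • w + w) + (l • w + w) = 0 := h1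
  have h3 := eq_neg_of_add_eq_zero_left h2
  rw [h3]
  exact neg_eq_of_add_eq_zero_left (S.two _)

/-- (b) : the vector `θ_s` -/
theorem min_exists_vec : ∃ s : W, s ∈ sp R X θ ∧ (∀ x ∈ X, x • s + s ∈ R) ∧
    θ + s ∈ AddSubgroup.closure ((R : Set W) ∪ {w | ∃ k ∈ LX X B, w = k • θ + θ}) := by
  classical
  have := S.finX
  have := S.finW
  letI := act (X := H) (R := R) S.fixR
  have hfin : Finite (MR R) := Finite.of_surjective (mkH R) (mkH_surj R)
  have hsm : ∀ (x : H) (w : W), x • mk R w = mk R (x • w) := fun _ _ => rfl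
  have hT : T ≤ normalizer (LX X B : Set H) := M.TX.trans le_normalizer_LX
  have hodd : ¬ 2 ∣ T.relIndex (LX X B) := by
    rw [← ML.MinFrame.relIndex_sup_comm hT, min_sup_eq S M]
    exact S.sylX M.TX
  obtain ⟨s, hsL, hsT, hs⟩ := exists_norm (G := H) (M := MR R) (fun m => by
    obtain ⟨w, rfl⟩ := mk_surj m
    rw [← mk_add, S.two, mk_zero]) (T := T) (L := LX X B) (fun t ht k hk => LX_conj (M.TX ht) hk) hodd
    (m := mk R θ) (fun t ht => by
      rw [hsm, mk_eq' S.two]
      exact S.Tθ t ht)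
  obtain ⟨w, rfl⟩ := mk_surj s
  have hcl : θ + w ∈ AddSubgroup.closure ((R : Set W) ∪ {w | ∃ k ∈ LX X B, w = k • θ + θ}) := by
    set C := AddSubgroup.closure ((R : Set W) ∪ {w | ∃ k ∈ LX X B, w = k • θ + θ}) with hC
    have hRC : R ≤ C := fun r hr => AddSubgroup.subset_closure (Or.inl hr)
    have h1 : Subgroup.closure {x : MR R | ∃ k ∈ LX X B, x = (k • mk R θ) * mk R θ} ≤
        (AddSubgroup.toSubgroup C).map (mkH R) := by
      rw [closure_le]
      rintro _ ⟨k, hk, rfl⟩
      have h2 : k • θ + θ ∈ C := AddSubgroup.subset_closure (Or.inr ⟨k, hk, rfl⟩)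
      exact ⟨Multiplicative.ofAdd (k • θ + θ), h2, rfl⟩
    obtain ⟨c, hc, e⟩ := h1 hs
    have e' : mk R (Multiplicative.toAdd c) = mk R (θ + w) := e
    rw [mk_eq' S.two] at e'
    have h2 := C.add_mem (hRC e') (show Multiplicative.toAdd c ∈ C from hc)
    have e2 : Multiplicative.toAdd c + (θ + w) + Multiplicative.toAdd c = θ + w := by
      have := S.two (Multiplicative.toAdd c)
      calc Multiplicative.toAdd c + (θ + w) + Multiplicative.toAdd c =
          (Multiplicative.toAdd c + Multiplicative.toAdd c) + (θ + w) := by abel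
        _ = _ := by rw [this, zero_add]
    rwa [e2] at h2
  refine ⟨w, ?_, ?_, hcl⟩
  · have h1 : AddSubgroup.closure ((R : Set W) ∪ {w | ∃ k ∈ LX X B, w = k • θ + θ}) ≤ sp R X θ := by
      rw [AddSubgroup.closure_le]
      rintro v (hv | ⟨k, hk, rfl⟩)
      · exact le_sp R X θ hv
      · exact (sp R X θ).add_mem (smul_mem_sp' R θ (LX_le (min_BX S M) hk)) (mem_sp R X θ)
    have h2 := (sp R X θ).add_mem (mem_sp R X θ) (h1 hcl)
    rwa [← add_assoc, S.two, zero_add] at h2
  · have hfix : ∀ x ∈ LX X B ⊔ T, x • mk R w = mk R w := by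
      have h1 : LX X B ⊔ T ≤ MulAction.stabilizer H (mk R w) := sup_le (fun k hk => hsL k hk) (fun t ht => hsT t ht)
      exact fun x hx => h1 hx
    intro x hx
    rw [← min_sup_eq S M] at hx
    have h1 := hfix x hx
    rwa [hsm, mk_eq' S.two] at h1

end min

end Cfsg.Agent.Omega.FOne.QR

end

section


/-!
# (F1), the K-route for `R` of any size: the section of the minimal overgroup (helper69)

* `stb R θ` : the stabiliser of `θ` modulo `R`; `StR R θ T` : a situation;
* `MinX.sec` : the minimal overgroup gives the situation `(X / K_X, W_n, θ_n)`;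
* **`StR.exists_fs`** : a situation with an atom of order at least 4 in `O₂(C(θ))` gives `FsR` with (LA).
-/

set_option autoImplicit false
set_option linter.unusedSectionVars false
set_option linter.style.haveILetI false

namespace Cfsg.Agent.Omega.FOne.QR

open Subgroup Cfsg Cfsg.Agent.ZN

universe u v

section defs

variable {X : Type u} [Group X] {W : Type v} [AddCommGroup W] [DistribMulAction X W]

/-- the stabiliser of `θ` modulo `R` -/
def stb (R : AddSubgroup W) (θ : W) : Subgroup X := Subgroup.closure {x | x • θ + θ ∈ R}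

theorem mem_stb {R : AddSubgroup W} (b : Bs X R) {θ : W} {x : X} : x ∈ (stb R θ : Subgroup X) ↔ x • θ + θ ∈ R := by
  constructor
  · intro hx
    let Z : Subgroup X :=
      { carrier := {x | x • θ + θ ∈ R}
        one_mem' := by
          change (1 : X) • θ + θ ∈ R
          rw [one_smul, b.two]; exact R.zero_mem
        mul_mem' := by
          intro g h hg hh
          change (g * h) • θ + θ ∈ R
          have e : (g * h) • θ + θ = g • (h • θ + θ) + (g • θ + θ) := by
            have h1 : g • θ + g • θ = 0 := b.two _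
            rw [mul_smul, smul_add]
            calc g • h • θ + θ = g • h • θ + (g • θ + g • θ) + θ := by rw [h1, add_zero]
              _ = _ := by abel
          rw [e, b.fixR g _ hh]
          exact R.add_mem hh hg
        inv_mem' := by
          intro h hh
          change h⁻¹ • θ + θ ∈ R
          have e : h⁻¹ • θ + θ = h⁻¹ • (h • θ + θ) := by
            rw [smul_add, inv_smul_smul, add_comm]
          rw [e, b.fixR _ _ hh]
          exact hh }
    have h1 : (stb R θ : Subgroup X) ≤ Z := by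
      rw [stb, closure_le]
      exact fun x hx => hx
    exact h1 hx
  · exact fun hx => subset_closure hx

/-- A situation. -/
structure StR (R : AddSubgroup W) (θ : W) (T : Subgroup X) : Prop where
  known : IsKGroupWith IsKnownSimple' X
  finX : Finite X
  finW : Finite W
  two : ∀ w : W, w + w = 0
  fixR : ∀ x : X, ∀ r ∈ R, x • r = r
  faith : ∀ x : X, (∀ w : W, x • w + w ∈ R) → x = 1
  T2 : IsPGroup 2 T
  syl : ¬ 2 ∣ T.index
  fixT : ∀ w : W, (∀ t ∈ T, t • w = w) → w ∈ R
  θR : θ ∉ R
  Tθ : ∀ t ∈ T, t • θ + θ ∈ R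
  gen : ∀ U : AddSubgroup W, R ≤ U → (∀ x : X, x • θ ∈ U) → U = ⊤

theorem SwR.st {R : AddSubgroup W} {θ : W} {T N : Subgroup X} (S : SwR R θ T N) : StR R θ T :=
  ⟨S.known, S.finX, S.finW, S.two, S.fixR, S.faith, S.T2, S.syl, S.fixT, S.θR, S.Tθ, S.gen⟩

theorem StR.bs {R : AddSubgroup W} {θ : W} {T : Subgroup X} (S : StR R θ T) : Bs X R := ⟨S.two, S.fixR⟩

/-- the situation with `N = O₂(C(θ))` -/
theorem StR.sw {R : AddSubgroup W} {θ : W} {T : Subgroup X} (S : StR R θ T) : SwR R θ T (o2 (stb R θ)) where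
  known := S.known
  finX := S.finX
  finW := S.finW
  two := S.two
  fixR := S.fixR
  faith := S.faith
  T2 := S.T2
  syl := S.syl
  fixT := S.fixT
  θR := S.θR
  Tθ := S.Tθ
  gen := S.gen
  N2 := isPGroup_o2 _
  Nθ := fun n hn => (mem_stb S.bs).1 (o2_le _ hn)
  Nn := fun x hx n hn => (mem_normalizer_iff.1 (le_normalizer_o2 _ ((mem_stb S.bs).2 hx)) n).1 hn

/-- `N ≤ O₂(C(θ))` -/
theorem SwR.N_le {R : AddSubgroup W} {θ : W} {T N : Subgroup X} (S : SwR R θ T N) : N ≤ o2 (stb R θ) := by
  refine le_o2 (fun n hn => (mem_stb S.bs).2 (S.Nθ n hn)) S.N2 fun x hx => ?_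
  have hx' := (mem_stb S.bs).1 hx
  have hxi := (mem_stb S.bs).1 ((stb R θ).inv_mem hx)
  rw [mem_normalizer_iff]
  intro n
  constructor
  · exact S.Nn x hx' n
  · intro hn
    have := S.Nn x⁻¹ hxi _ hn
    have e : x⁻¹ * (x * n * x⁻¹) * x⁻¹⁻¹ = n := by group
    rwa [e] at this

/-- every atom of `O₂(C(θ))` is in `O₂(Q)`, `T ≤ Q < X` -/
def LaR (R : AddSubgroup W) (θ : W) (T : Subgroup X) : Prop :=
  ∀ Z : Subgroup X, (∀ x, x ∈ Z ↔ x • θ + θ ∈ R) → ∀ B₁ : Subgroup X, AtR R (o2 Z) B₁ →
    ∀ Q : Subgroup X, T ≤ Q → Q ≠ ⊤ → B₁ ≤ o2 Q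

end defs

variable {H : Type u} [Group H] {W : Type v} [AddCommGroup W] [DistribMulAction H W]
  {R : AddSubgroup W} {θ : W} {T N X B : Subgroup H}

/-- **The section of the minimal overgroup.** -/
theorem min_sec (hML : ML.Final.MLK.{u, v}) (S : SwR R θ T N) (M : MinX R θ T N S.bs X B) :
    ∃ (X' : Type u) (_ : Group X') (W' : Type v) (_ : AddCommGroup W') (_ : DistribMulAction X' W')
      (R' : AddSubgroup W') (θ' : W') (T' B' : Subgroup X'), StR R' θ' T' ∧ AtR R' (o2 (stb R' θ')) B' ∧
        Nat.card X' ≤ Nat.card X := by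
  classical
  have hfX := S.finX
  have hfW := S.finW
  have b := S.bs
  have two := S.two
  set K := kk S.bs (sp R X θ) with hK
  obtain ⟨s, hsU, hsX, hscl⟩ := min_exists_vec S M
  set θn := θ + s with hθn
  have hθ : θ = θn + s := by rw [hθn, add_assoc, two, add_zero]
  set U := sp R X θn with hU
  have hBX := min_BX S M
  -- `K ∩ X` fixes `U`
  have hKX : ∀ x ∈ X, ∀ k ∈ X, k ∈ K → x * k * x⁻¹ ∈ K := fun x hx k _ hk => kk_norm S.bs hx hk
  have hfix1 : ∀ k ∈ X, k ∈ K → k • θn = θn := by
    intro k hk hkK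
    let C : AddSubgroup W :=
      { carrier := {w | k • w = w}
        zero_mem' := smul_zero k
        add_mem' := by
          intro v w hv hw
          change k • (v + w) = v + w
          rw [smul_add, hv, hw]
        neg_mem' := by
          intro w hw
          change k • (-w) = -w
          rw [smul_neg, hw] }
    have h1 : AddSubgroup.closure ((R : Set W) ∪ {w | ∃ l ∈ LX X B, w = l • θ + θ}) ≤ C := by
      rw [AddSubgroup.closure_le]
      rintro w (hw | ⟨l, hl, rfl⟩)
      · exact S.fixR k w hw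
      · exact min_thmA S M hML hk hkK hl (mem_sp R X θ)
    exact h1 hscl
  have hfix : ∀ k ∈ X, k ∈ K → ∀ u ∈ U, k • u = u := by
    intro k hk hkK u hu
    let C : AddSubgroup W :=
      { carrier := {w | k • w = w}
        zero_mem' := smul_zero k
        add_mem' := by
          intro v w hv hw
          change k • (v + w) = v + w
          rw [smul_add, hv, hw]
        neg_mem' := by
          intro w hw
          change k • (-w) = -w
          rw [smul_neg, hw] }
    have h1 : U ≤ C := by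
      refine sp_le (fun r hr => S.fixR k r hr) fun x hx => ?_
      change k • x • θn = x • θn
      have h2 := hKX x⁻¹ (X.inv_mem hx) k hk hkK
      rw [inv_inv] at h2
      have h3 := hfix1 _ (X.mul_mem (X.mul_mem (X.inv_mem hx) hk) hx) h2
      have e : k • x • θn = x • ((x⁻¹ * k * x) • θn) := by
        rw [mul_smul, mul_smul, smul_inv_smul]
      rw [e, h3]
    exact h1 hu
  -- the kernel on `U / R`
  have hker : ∀ x ∈ X, (∀ u ∈ U, x • u + u ∈ R) → x ∈ K := by
    intro x hx hxU
    rw [hK, mem_kk_sp]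
    intro y hy
    have h1 := hxU _ (smul_mem_sp' R θn hy)
    have h2 := hsX _ (X.mul_mem hx hy)
    have h3 := hsX _ hy
    have e : x • y • θ + y • θ = (x • y • θn + y • θn) + (((x * y) • s + s) + (y • s + s)) := by
      have h4 := two s
      rw [hθ, smul_add, smul_add, mul_smul]
      calc x • y • θn + x • y • s + (y • θn + y • s) =
          x • y • θn + x • y • s + (y • θn + y • s) + 0 := by rw [add_zero]
        _ = x • y • θn + x • y • s + (y • θn + y • s) + (s + s) := by rw [h4]
        _ = _ := by abel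
    rw [e]
    exact R.add_mem h1 (R.add_mem h2 h3)
  have hstab : ∀ x ∈ X, (x • θn + θn ∈ R ↔ x • θ + θ ∈ R) := by
    intro x hx
    have h2 := hsX x hx
    have e : x • θ + θ = (x • θn + θn) + (x • s + s) := by
      conv_lhs => rw [hθ]
      rw [smul_add]; abel
    have e2 : x • θn + θn = (x • θ + θ) + (x • s + s) := by
      rw [hθn, smul_add]; abel
    constructor
    · intro h; rw [e]; exact R.add_mem h h2
    · intro h; rw [e2]; exact R.add_mem h h2
  have hθnR : θn ∉ R := by
    intro h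
    apply M.nt
    intro c hc
    have hXθ : ∀ x ∈ X, x • θ + θ ∈ R := by
      intro x hx
      rw [← hstab x hx, S.fixR x _ h, two]
      exact R.zero_mem
    rw [mem_kk_sp]
    intro x hx
    have h1 := hXθ _ (X.mul_mem (hBX hc) hx)
    have h2 := hXθ _ hx
    have e : c • x • θ + x • θ = ((c * x) • θ + θ) + (x • θ + θ) := by
      have h4 := two θ
      rw [mul_smul]
      calc c • x • θ + x • θ = c • x • θ + x • θ + (θ + θ) := by rw [h4, add_zero]
        _ = _ := by abel
    rw [e]
    exact R.add_mem h1 h2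
  -- `W = U + C(B)`
  have hd := (S.dich hML M.TX M.at_).resolve_left M.nt
  have hsup : U ⊔ cmR R B = ⊤ := by
    rw [eq_top_iff, ← hd.2]
    refine sup_le (sp_le ((le_sp R X θn).trans le_sup_left) fun x hx => ?_) le_sup_right
    have h1 : x • θn ∈ U ⊔ cmR R B := (le_sup_left : U ≤ U ⊔ cmR R B) (smul_mem_sp' R θn hx)
    have h2 : x • s ∈ U ⊔ cmR R B := by
      have h3 : s ∈ cmR R B := fun c hc => hsX c (hBX hc)
      have h4 : x • s + s ∈ U := le_sp R X θn (hsX x hx)
      have h5 := (U ⊔ cmR R B).add_mem ((le_sup_left : U ≤ U ⊔ cmR R B) h4) ((le_sup_right : _ ≤ U ⊔ cmR R B) h3)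
      rwa [add_assoc, two, add_zero] at h5
    have e : x • θ = x • θn + x • s := by
      conv_lhs => rw [hθ]
      rw [smul_add]
    rw [e]
    exact (U ⊔ cmR R B).add_mem h1 h2
  have hidx : ∀ C ≤ B, (cmR R C).relIndex U = (cmR R C).index := by
    intro C hC
    have h1 : U ⊔ cmR R C = ⊤ := by
      rw [eq_top_iff, ← hsup]
      exact sup_le le_sup_left ((cmR_anti hC).trans le_sup_right)
    have h2 : (cmR R C).relIndex (U ⊔ cmR R C) = (cmR R C).relIndex U := AddSubgroup.relIndex_sup_right _ _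
    rw [← h2, h1, AddSubgroup.relIndex_top_right]
  -- the action of `X` on `U`
  have hUX : ∀ x ∈ X, ∀ u ∈ U, x • u ∈ U := fun x hx u hu => smul_mem_sp S.bs hx hu
  letI actU : DistribMulAction X U :=
    { smul := fun x u => ⟨(x : H) • (u : W), hUX x x.2 u u.2⟩
      one_smul := fun u => Subtype.ext (one_smul H (u : W))
      mul_smul := fun x y u => Subtype.ext (mul_smul (x : H) (y : H) (u : W))
      smul_zero := fun x => Subtype.ext (smul_zero (x : H))
      smul_add := fun x u v => Subtype.ext (smul_add (x : H) (u : W) (v : W)) }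
  have hsm : ∀ (x : X) (u : U), ((x • u : U) : W) = (x : H) • (u : W) := fun _ _ => rfl
  let K' : Subgroup X := K.subgroupOf X
  haveI hKn : K'.Normal := ⟨fun k hk x => hKX x x.2 k k.2 hk⟩
  have hle : K' ≤ (DistribMulAction.toAddMonoidEnd X U).ker := by
    intro k hk
    rw [MonoidHom.mem_ker]
    ext u
    exact hfix k k.2 hk u u.2
  letI actQ : DistribMulAction (X ⧸ K') U :=
    DistribMulAction.compHom U (QuotientGroup.lift K' (DistribMulAction.toAddMonoidEnd X U) hle)
  let π : X →* X ⧸ K' := QuotientGroup.mk' K'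
  have hπ : Function.Surjective π := QuotientGroup.mk'_surjective K'
  have hsq : ∀ (x : X) (u : U), π x • u = x • u := fun _ _ => rfl
  have hcoe : ∀ (x : X) (u : U), ((π x • u : U) : W) = (x : H) • (u : W) := fun _ _ => rfl
  have hπ1 : ∀ x : X, π x = 1 ↔ (x : H) ∈ K := fun x => QuotientGroup.eq_one_iff x
  -- the data
  let R' : AddSubgroup U := R.addSubgroupOf U
  have hR' : ∀ u : U, u ∈ R' ↔ (u : W) ∈ R := fun _ => Iff.rfl
  let θ' : U := ⟨θn, mem_sp R X θn⟩
  let T' : Subgroup (X ⧸ K') := (T.subgroupOf X).map π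
  let B' : Subgroup (X ⧸ K') := (B.subgroupOf X).map π
  have hinjB : ∀ x : X, (x : H) ∈ B → π x = 1 → x = 1 := by
    intro x hx h1
    have h2 : (x : H) ∈ B ⊓ K := ⟨hx, (hπ1 x).1 h1⟩
    rw [hd.1, mem_bot] at h2
    exact Subtype.ext h2
  have hst : StR R' θ' T' := by
    refine
      { known := ?_
        finX := inferInstance
        finW := inferInstance
        two := fun w => Subtype.ext (two w)
        fixR := ?_
        faith := ?_
        T2 := (S.T2.of_equiv (subgroupOfEquivOfLe M.TX).symm).map π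
        syl := ?_
        fixT := ?_
        θR := hθnR
        Tθ := ?_
        gen := ?_ }
    · exact ML.Final.kgroup_of_surj (ML.Final.kgroup_of_surj S.known X (MonoidHom.id X) fun x => ⟨x, rfl⟩)
        (⊤ : Subgroup X) (π.comp (⊤ : Subgroup X).subtype) (by
          intro q
          obtain ⟨x, rfl⟩ := hπ q
          exact ⟨⟨x, mem_top x⟩, rfl⟩)
    · intro q r hr
      obtain ⟨x, rfl⟩ := hπ q
      exact Subtype.ext (S.fixR x _ hr)
    · intro q hq
      obtain ⟨x, rfl⟩ := hπ q
      rw [hπ1]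
      exact hker x x.2 fun u hu => hq ⟨u, hu⟩
    · intro h2
      have h3 : (T.subgroupOf X).index = T.relIndex X := rfl
      have h4 := index_map_dvd (T.subgroupOf X) hπ
      rw [h3] at h4
      exact S.sylX M.TX (h2.trans h4)
    · intro w hw
      refine S.fixT w fun t ht => ?_
      have h1 := hw (π ⟨t, M.TX ht⟩) ⟨⟨t, M.TX ht⟩, ht, rfl⟩
      exact congrArg Subtype.val h1
    · rintro _ ⟨t, ht, rfl⟩
      have h1 := (hstab t t.2).2 (S.Tθ t ht)
      exact h1
    · intro V hV hVx
      rw [eq_top_iff]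
      rintro ⟨u, hu⟩ -
      have h1 : U ≤ V.map U.subtype := by
        refine sp_le ?_ ?_
        · intro r hr
          exact ⟨⟨r, le_sp R X θn hr⟩, hV hr, rfl⟩
        · intro x hx
          exact ⟨_, hVx (π ⟨x, hx⟩), rfl⟩
      obtain ⟨v, hv, e⟩ := h1 hu
      have : v = ⟨u, hu⟩ := Subtype.ext e
      rwa [this] at hv
  have hcm : ∀ C : Subgroup H, C ≤ X → cmR R' ((C.subgroupOf X).map π) = (cmR R C).addSubgroupOf U := by
    intro C hC
    ext u
    rw [AddSubgroup.mem_addSubgroupOf]
    constructor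
    · intro hu c hc
      exact hu (π ⟨c, hC hc⟩) ⟨⟨c, hC hc⟩, hc, rfl⟩
    · rintro hu _ ⟨c, hc, rfl⟩
      exact hu c hc
  have hcard : ∀ C : Subgroup H, C ≤ B → Nat.card ((C.subgroupOf X).map π : Subgroup (X ⧸ K')) = Nat.card C := by
    intro C hC
    have h1 : Function.Injective (π.subgroupMap (C.subgroupOf X)) := by
      rw [injective_iff_map_eq_one]
      rintro ⟨x, hx⟩ h1
      have h2 : π x = 1 := congrArg Subtype.val h1
      exact Subtype.ext (hinjB x (hC hx) h2)
    rw [← Nat.card_congr (Equiv.ofBijective _ ⟨h1, π.subgroupMap_surjective _⟩)]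
    exact Nat.card_congr (subgroupOfEquivOfLe (hC.trans hBX)).toEquiv
  have hat : AtR R' (o2 (stb R' θ')) B' := by
    refine
      { BN := ?_
        sq := ?_
        quad := ?_
        four := ?_
        exact := ?_
        atom := ?_ }
    · -- the image of `N ∩ X`
      have h1 : ((N ⊓ X).subgroupOf X).map π ≤ o2 (stb R' θ') := by
        refine le_o2 ?_ ?_ ?_
        · rintro _ ⟨n, hn, rfl⟩
          rw [mem_stb hst.bs]
          exact (hstab n n.2).2 (S.Nθ n hn.1)
        · exact ((S.N2.to_le inf_le_left).of_equiv (subgroupOfEquivOfLe inf_le_right).symm).map π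
        · intro q hq
          rw [mem_stb hst.bs] at hq
          obtain ⟨x, rfl⟩ := hπ q
          have hx1 : (x : H) • θ + θ ∈ R := (hstab x x.2).1 hq
          have hx2 : ((x⁻¹ : X) : H) • θ + θ ∈ R := by
            have h2 := (stb R θ).inv_mem ((mem_stb S.bs).2 hx1)
            exact (mem_stb S.bs).1 h2
          rw [mem_normalizer_iff]
          intro g
          constructor
          · rintro ⟨n, hn, rfl⟩
            refine ⟨x * n * x⁻¹, ⟨S.Nn x hx1 n hn.1, (x * n * x⁻¹).2⟩, ?_⟩
            rw [map_mul, map_mul, map_inv]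
          · rintro ⟨n, hn, e⟩
            refine ⟨x⁻¹ * n * x, ⟨?_, (x⁻¹ * n * x).2⟩, ?_⟩
            · have h2 := S.Nn _ hx2 n hn.1
              have e2 : ((x⁻¹ * n * x : X) : H) = ((x⁻¹ : X) : H) * n * ((x⁻¹ : X) : H)⁻¹ := by
                simp
              change ((x⁻¹ * n * x : X) : H) ∈ N
              rw [e2]
              exact h2
            · rw [map_mul, map_mul, map_inv, e]
              group
      refine le_trans ?_ h1
      refine Subgroup.map_mono ?_
      intro x hx
      exact ⟨M.at_.BN hx, x.2⟩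
    · rintro _ ⟨x, hx, rfl⟩
      rw [← map_mul]
      have h1 : x * x = 1 := Subtype.ext (M.at_.sq x hx)
      rw [h1, map_one]
    · rintro _ ⟨x, hx, rfl⟩ _ ⟨y, hy, rfl⟩ w
      exact M.at_.quad x hx y hy w
    · rw [hcard B le_rfl]
      exact M.at_.four
    · rw [hcm B hBX, hcard B le_rfl]
      change (cmR R B).relIndex U = _
      rw [hidx B le_rfl, M.at_.exact]
    · intro C hC hC1 hCB
      -- the preimage of `C` in `B`
      let C₀ : Subgroup H := (((C.comap π) ⊓ (B.subgroupOf X))).map X.subtype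
      have hC₀B : C₀ ≤ B := by
        rintro _ ⟨x, hx, rfl⟩
        exact hx.2
      have hC₀ : (C₀.subgroupOf X).map π = C := by
        apply le_antisymm
        · rintro _ ⟨x, hx, rfl⟩
          obtain ⟨y, hy, e⟩ := hx
          have : y = x := Subtype.ext e
          rw [← this]
          exact hy.1
        · intro c hc
          obtain ⟨x, hx, e⟩ := hC hc
          refine ⟨x, ⟨x, ⟨?_, hx⟩, rfl⟩, e⟩
          change π x ∈ C
          rw [e]; exact hc
      rw [← hC₀, hcard C₀ hC₀B, hcm C₀ (hC₀B.trans hBX)]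
      change _ < (cmR R C₀).relIndex U
      rw [hidx C₀ hC₀B]
      refine M.at_.atom C₀ hC₀B ?_ ?_
      · intro h
        apply hC1
        rw [← hC₀, h, eq_bot_iff]
        rintro _ ⟨x, hx, rfl⟩
        have h2 : x = 1 := Subtype.ext (mem_bot.1 (show (x : H) ∈ (⊥ : Subgroup H) from hx))
        rw [mem_bot, h2, map_one]
      · intro h
        apply hCB
        rw [← hC₀, h]
  refine ⟨X ⧸ K', inferInstance, U, inferInstance, actQ, R', θ', T', B', hst, hat, ?_⟩
  exact Nat.card_le_card_of_surjective π hπ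

/-- **A situation with an atom of order at least 4 in `O₂(C(θ))` gives the faithful section with (LA).** -/
theorem exists_fs (hML : ML.Final.MLK.{u, v}) (n : ℕ) : ∀ (H : Type u) [Group H] (W : Type v) [AddCommGroup W]
    [DistribMulAction H W] (R : AddSubgroup W) (θ : W) (T B : Subgroup H), Nat.card H = n → StR R θ T →
    AtR R (o2 (stb R θ)) B →
    ∃ (X' : Type u) (_ : Group X') (W' : Type v) (_ : AddCommGroup W') (_ : DistribMulAction X' W')
      (R' : AddSubgroup W') (θ' : W') (T' B' : Subgroup X'), FsR R' θ' T' B' ∧ LaR R' θ' T' := by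
  induction n using Nat.strong_induction_on with
  | _ n ih =>
    intro H _ W _ _ R θ T B hn St hB
    classical
    have hfX := St.finX
    have S := St.sw
    by_cases hall : ∀ Q : Subgroup H, T ≤ Q → Q ≠ ⊤ → ∀ C, AtR R (o2 (stb R θ)) C → C ≤ kk St.bs (sp R Q θ)
    · have hlow : ∀ C, AtR R (o2 (stb R θ)) C → ∀ Q : Subgroup H, T ≤ Q → Q ≠ ⊤ → C ≤ o2 Q :=
        fun C hC Q hTQ hQ => S.le_o2_of_le hTQ hC.BN (hall Q hTQ hQ C hC)
      refine ⟨H, inferInstance, W, inferInstance, inferInstance, R, θ, T, B, ?_, ?_⟩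
      · exact
          { known := St.known, finX := St.finX, finW := St.finW, two := St.two, fixR := St.fixR, faith := St.faith
            T2 := St.T2, syl := St.syl, fixT := St.fixT, θR := St.θR, Tθ := St.Tθ, gen := St.gen
            BT := hB.BN.trans S.NT, sq := hB.sq, quad := hB.quad, four := hB.four, exact := hB.exact
            atom := hB.atom, low := hlow B hB }
      · intro Z hZ B₁ hB₁ Q hTQ hQ
        have e : Z = stb R θ := by
          ext x
          rw [hZ, mem_stb St.bs]
        rw [e] at hB₁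
        exact hlow B₁ hB₁ Q hTQ hQ
    · push Not at hall
      obtain ⟨Q, hTQ, hQ, C, hC, hCQ⟩ := hall
      have hfin : Finite (Subgroup H) := inferInstance
      obtain ⟨X, hX⟩ := (Set.toFinite {X : Subgroup H | T ≤ X ∧ X ≠ ⊤ ∧
        ∃ C, AtR R (o2 (stb R θ)) C ∧ ¬ C ≤ kk St.bs (sp R X θ)}).exists_minimal ⟨Q, hTQ, hQ, C, hC, hCQ⟩
      obtain ⟨hTX, hXt, C', hC', hCX⟩ := hX.prop
      have M : MinX R θ T (o2 (stb R θ)) S.bs X C' := by
        refine ⟨hTX, hC', hCX, fun Y hTY hYX hne D hD => ?_⟩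
        by_contra hcon
        refine hne (le_antisymm hYX (hX.le_of_le (y := Y) ⟨hTY, ?_, D, hD, hcon⟩ hYX))
        intro h
        rw [h, top_le_iff] at hYX
        exact hXt hYX
      obtain ⟨X', i1, W', i2, i3, R', θ', T', B', h1, h2, h3⟩ := min_sec hML S M
      have hlt : Nat.card X < Nat.card H := by
        have h4 := X.card_mul_index
        have h5 : X.index ≠ 1 := fun h => hXt (index_eq_one.1 h)
        have h6 : X.index ≠ 0 := index_ne_zero_of_finite
        have h7 : 0 < Nat.card X := Nat.card_pos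
        have h8 : 2 ≤ X.index := by omega
        have h9 : Nat.card X * 2 ≤ Nat.card H := by rw [← h4]; exact Nat.mul_le_mul_left _ h8
        omega
      exact ih (Nat.card X') (by omega) X' W' R' θ' T' B' rfl h1 h2

/-- the same from `SwR` -/
theorem SwR.exists_fs (hML : ML.Final.MLK.{u, v}) (S : SwR R θ T N) (hB : AtR R N B) :
    ∃ (X' : Type u) (_ : Group X') (W' : Type v) (_ : AddCommGroup W') (_ : DistribMulAction X' W')
      (R' : AddSubgroup W') (θ' : W') (T' B' : Subgroup X'), FsR R' θ' T' B' ∧ LaR R' θ' T' :=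
  QR.exists_fs hML _ H W R θ T B rfl S.st
    ⟨hB.BN.trans S.N_le, hB.sq, hB.quad, hB.four, hB.exact, hB.atom⟩

end Cfsg.Agent.Omega.FOne.QR

end

section


/-!
# From an exact group on `W` to an atom of `W / R` (helper763 #23689 (2)-(4), typed by helper851)

`SwR R θ T N`; `E ≤ N` is elementary abelian, quadratic and exact on `W` (`|W : C_W(E)| ≤ |E|`, `|C| < |W : C_W(C)|` for
`1 < C < E`), `|E| ≥ 4`, and an element of `E` which normalises a line `R + ⟨x • θ⟩` centralises it (`m1`).

* `SwR.o2_bot` : no nontrivial normal 2-subgroup;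
* `SwR.tw` : an involution `b` with `(cmR R ⟨b⟩).index = 2` and `m1` is a transvection of `W`;
* **`SwR.exists_atR`** : `E` contains an atom `B` of `W / R` with `|B| ≥ 4`, i.e. `AtR R N B`.
-/

set_option autoImplicit false
set_option linter.unusedSectionVars false

namespace Cfsg.Agent.Omega.FOne.QR

open Subgroup Cfsg Cfsg.Agent.ZN

universe u v

variable {X : Type u} [Group X] {W : Type v} [AddCommGroup W] [DistribMulAction X W]

/-- `C_W(B)` -/
def fxW (B : Subgroup X) : AddSubgroup W where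
  carrier := {w | ∀ b ∈ B, b • w = w}
  zero_mem' := fun b _ => smul_zero b
  add_mem' := by
    intro v w hv hw b hb
    rw [smul_add, hv b hb, hw b hb]
  neg_mem' := by
    intro w hw b hb
    rw [smul_neg, hw b hb]

theorem mem_fxW {B : Subgroup X} {w : W} : w ∈ (fxW B : AddSubgroup W) ↔ ∀ b ∈ B, b • w = w := Iff.rfl

theorem fxW_le {R : AddSubgroup W} (two : ∀ w : W, w + w = 0) (B : Subgroup X) : fxW B ≤ cmR R B := by
  intro w hw b hb
  rw [hw b hb, two]
  exact R.zero_mem

variable {R : AddSubgroup W} {θ : W} {T N : Subgroup X}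

theorem mem_cmR_zpowers {b : X} (hb : b * b = 1) (two : ∀ w : W, w + w = 0) {w : W} :
    w ∈ cmR R (zpowers b) ↔ b • w + w ∈ R := by
  constructor
  · intro h
    exact h b (mem_zpowers b)
  · intro h x hx
    obtain ⟨n, rfl⟩ := mem_zpowers_iff.1 hx
    rcases Int.even_or_odd n with hn | hn
    · obtain ⟨k, rfl⟩ := hn
      have e : b ^ (k + k) = 1 := by
        rw [← two_mul, zpow_mul, zpow_two, hb, one_zpow]
      rw [e, one_smul, two]
      exact R.zero_mem
    · obtain ⟨k, rfl⟩ := hn
      have e : b ^ (2 * k + 1) = b := by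
        rw [zpow_add_one, zpow_mul, zpow_two, hb, one_zpow, one_mul]
      rw [e]
      exact h

/-- `O_2(X) = 1` -/
theorem SwR.o2_bot (S : SwR R θ T N) {P : Subgroup X} (hP : IsPGroup 2 P) (hn : P.Normal) : P = ⊥ := by
  have := S.finX
  have : Fact (Nat.Prime 2) := ⟨Nat.prime_two⟩
  have hPT : P ≤ T := by
    have h1 : IsPGroup 2 (T ⊔ P : Subgroup X) := S.T2.to_sup_of_normal_right hP
    have h2 : T ⊔ P = T := (S.T2.toSylow S.syl).is_maximal' h1 le_sup_left
    exact le_sup_right.trans h2.le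
  rw [eq_bot_iff]
  intro p hp
  rw [mem_bot]
  refine S.faith p ?_
  have key : cmR R P = ⊤ := by
    refine S.gen _ ?_ ?_
    · intro r hr b _
      rw [S.fixR b r hr, S.two]
      exact R.zero_mem
    · intro x b hb
      have h1 : x⁻¹ * b * x ∈ P := by
        have := hn.conj_mem b hb x⁻¹
        rwa [inv_inv] at this
      have h2 := S.Tθ _ (hPT h1)
      have e : b • x • θ + x • θ = x • ((x⁻¹ * b * x) • θ + θ) := by
        rw [smul_add, mul_smul, mul_smul, smul_inv_smul]
      rw [e, S.fixR x _ h2]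
      exact h2
  intro w
  have : w ∈ cmR R P := by rw [key]; exact AddSubgroup.mem_top w
  exact this p hp

/-- two involutions which act on `W > U > R` in a small way: `(b b')^4 = 1` -/
theorem SwR.pow_four (S : SwR R θ T N) {b b' : X} (hb : b * b = 1) {U : AddSubgroup W} (hRU : R ≤ U)
    (h1 : ∀ w, b' • w + w ∈ U) (h2 : ∀ u ∈ U, b • u + u ∈ R) (h3 : ∀ u ∈ U, b' • u + u ∈ R) :
    (b * b') ^ 4 = 1 := by
  have sub : ∀ (x : X) (u : W), x • u + u ∈ R → u ∈ U → x • u ∈ U := by
    intro x u h hu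
    have e : x • u = (x • u + u) + u := by rw [add_assoc, S.two, add_zero]
    rw [e]
    exact U.add_mem (hRU h) hu
  -- `b b'` on `U`
  have h4 : ∀ u ∈ U, (b * b') • u + u ∈ R := by
    intro u hu
    have e : (b * b') • u + u = (b • (b' • u + u)) + (b • u + u) := by
      rw [mul_smul, smul_add]
      calc b • b' • u + u = b • b' • u + (b • u + b • u) + u := by rw [S.two, add_zero]
        _ = _ := by abel
    rw [e, S.fixR b _ (h3 u hu)]
    exact R.add_mem (h3 u hu) (h2 u hu)
  have h4U : ∀ u ∈ U, (b * b') • u ∈ U := fun u hu => sub _ _ (h4 u hu) hu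
  have hbU : ∀ u ∈ U, b • u ∈ U := fun u hu => sub _ _ (h2 u hu) hu
  -- `b b' w = b w` modulo `U`
  have h5 : ∀ w : W, (b * b') • w + b • w ∈ U := by
    intro w
    rw [mul_smul, ← smul_add]
    exact hbU _ (h1 w)
  -- `(b b')² w = w` modulo `U`
  have h6 : ∀ w : W, (b * b') • (b * b') • w + w ∈ U := by
    intro w
    have e : (b * b') • (b * b') • w + w
        = (b * b') • ((b * b') • w + b • w) + ((b * b') • b • w + b • b • w) := by
      have e1 : b • b • w = w := by rw [← mul_smul, hb, one_smul]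
      rw [e1, smul_add]
      calc (b * b') • (b * b') • w + w
          = (b * b') • (b * b') • w + ((b * b') • b • w + (b * b') • b • w) + w := by rw [S.two, add_zero]
        _ = _ := by abel
    rw [e]
    exact U.add_mem (h4U _ (h5 w)) (h5 (b • w))
  refine S.faith _ fun w => ?_
  set ρ := b * b' with hρ
  have h7 : ∀ u ∈ U, ρ • ρ • u + u ∈ R := by
    intro u hu
    have e : ρ • ρ • u + u = (ρ • (ρ • u) + ρ • u) + (ρ • u + u) := by
      calc ρ • ρ • u + u = ρ • ρ • u + (ρ • u + ρ • u) + u := by rw [S.two, add_zero]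
        _ = _ := by abel
    rw [e]
    exact R.add_mem (h4 _ (h4U u hu)) (h4 u hu)
  have e : ρ ^ 4 • w + w = ρ • ρ • (ρ • ρ • w + w) + (ρ • ρ • w + w) := by
    have e1 : ρ ^ 4 • w = ρ • ρ • ρ • ρ • w := by
      rw [show ρ ^ 4 = ρ * ρ * ρ * ρ by simp only [pow_succ, pow_zero, one_mul], mul_smul, mul_smul, mul_smul]
    rw [e1, smul_add, smul_add]
    calc ρ • ρ • ρ • ρ • w + w = ρ • ρ • ρ • ρ • w + (ρ • ρ • w + ρ • ρ • w) + w := by rw [S.two, add_zero]
      _ = _ := by abel
  rw [e]
  exact h7 _ (h6 w)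

/-- **LEMMA TW** : an involution which is a transvection of `W / R` and centralises the lines `R + ⟨x • θ⟩` which it
normalises is a transvection of `W`. -/
theorem SwR.tw (S : SwR R θ T N) {b : X} (hb : b * b = 1) (hix : (cmR R (zpowers b)).index = 2)
    (m1 : ∀ x : X, b • x • θ + x • θ ∈ R → b • x • θ = x • θ) :
    ∃ c' : W, ∀ w : W, b • w = w ∨ b • (w + c') = w + c' := by
  have := S.finX
  have : Fact (Nat.Prime 2) := ⟨Nat.prime_two⟩
  have hmem : ∀ {w : W}, w ∈ cmR R (zpowers b) ↔ b • w + w ∈ R := mem_cmR_zpowers hb S.two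
  -- a vector outside
  obtain ⟨w₀, hw₀⟩ : ∃ w₀ : W, w₀ ∉ cmR R (zpowers b) := by
    by_contra hcon
    push Not at hcon
    have : cmR R (zpowers b) = ⊤ := by
      rw [eq_top_iff]
      intro w _
      exact hcon w
    rw [this, AddSubgroup.index_top] at hix
    omega
  have hb1 : b ≠ 1 := by
    rintro rfl
    exact hw₀ (hmem.2 (by rw [one_smul, S.two]; exact R.zero_mem))
  have bb : ∀ w : W, b • b • w = w := fun w => by rw [← mul_smul, hb, one_smul]
  set c : W := b • w₀ + w₀ with hc
  have hcf : b • c = c := by rw [hc, smul_add, bb, add_comm]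
  have hcK : c ∈ cmR R (zpowers b) := hmem.2 (by rw [hcf, S.two]; exact R.zero_mem)
  have hcR : c ∉ R := fun h => hw₀ (hmem.2 h)
  have hadd : ∀ {v w : W}, v ∉ cmR R (zpowers b) → w ∉ cmR R (zpowers b) → v + w ∈ cmR R (zpowers b) :=
    fun hv hw => add_mem_of_two hix hv hw
  -- (A), (B)
  have hA : ∀ {w : W}, w ∈ cmR R (zpowers b) → b • w + w ∈ R := fun h => hmem.1 h
  have hB : ∀ {w : W}, w ∉ cmR R (zpowers b) → b • w + w + c ∈ R := by
    intro w hw
    have h := hA (hadd hw hw₀)
    have e : b • (w + w₀) + (w + w₀) = b • w + w + c := by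
      rw [hc, smul_add]; abel
    rwa [e] at h
  -- an element of odd order inverted by `b`
  have hO : ¬ IsPGroup 2 (Subgroup.normalClosure {b} : Subgroup X) := by
    intro h
    have h1 := S.o2_bot h Subgroup.normalClosure_normal
    have h2 : b ∈ (Subgroup.normalClosure {b} : Subgroup X) := subset_normalClosure (by simp)
    rw [h1, mem_bot] at h2
    exact hb1 h2
  obtain ⟨h, hh1, hodd, hinv⟩ := Cfsg.Agent.Involutions.BaerSuzuki.exists_odd_inverted b hb hO
  have hbinv : b⁻¹ = b := inv_eq_of_mul_eq_one_left hb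
  set b' : X := h * b * h⁻¹ with hb'
  set c' : W := h • c with hc'
  have hb'2 : b' * b' = 1 := by
    rw [hb']
    calc h * b * h⁻¹ * (h * b * h⁻¹) = h * (b * b) * h⁻¹ := by group
      _ = 1 := by rw [hb]; group
  have hsm : ∀ w : W, b' • w = h • b • h⁻¹ • w := by
    intro w
    rw [hb', mul_smul, mul_smul]
  have hA' : ∀ {w : W}, h⁻¹ • w ∈ cmR R (zpowers b) → b' • w + w ∈ R := by
    intro w hw
    have h1 := hA hw
    have e : b' • w + w = h • (b • h⁻¹ • w + h⁻¹ • w) := by
      rw [hsm, smul_add, smul_inv_smul]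
    rw [e, S.fixR h _ h1]
    exact h1
  have hB' : ∀ {w : W}, h⁻¹ • w ∉ cmR R (zpowers b) → b' • w + w + c' ∈ R := by
    intro w hw
    have h1 := hB hw
    have e : b' • w + w + c' = h • (b • h⁻¹ • w + h⁻¹ • w + c) := by
      rw [hsm, smul_add, smul_add, smul_inv_smul]
    rw [e, S.fixR h _ h1]
    exact h1
  -- `b b' = h^{-2}` has odd order
  have hne : (b * b') ^ 4 ≠ 1 := by
    intro h4
    have e : b * b' = h⁻¹ * h⁻¹ := by
      have e1 : b * h * b⁻¹ = h⁻¹ := hinv
      rw [hbinv] at e1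
      calc b * b' = (b * h * b) * h⁻¹ := by rw [hb']; group
        _ = h⁻¹ * h⁻¹ := by rw [e1]
    rw [e] at h4
    have e2 : h ^ 8 = 1 := by
      have e3 : (h⁻¹ * h⁻¹) ^ 4 = (h ^ 8)⁻¹ := by group
      rw [e3, inv_eq_one] at h4
      exact h4
    have h5 : orderOf h ∣ 8 := orderOf_dvd_of_pow_eq_one e2
    have h6 : orderOf h ∣ 2 ^ 3 := by simpa using h5
    have h7 : Nat.Coprime (orderOf h) (2 ^ 3) :=
      (Nat.Coprime.pow_right 3 (Nat.coprime_two_right.2 hodd))
    have h8 : orderOf h = 1 := Nat.Coprime.eq_one_of_dvd h7 h6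
    exact hh1 (orderOf_eq_one_iff.1 h8)
  -- `c' ∉ K`
  have hc'K : c' ∉ cmR R (zpowers b) := by
    intro hcon
    apply hne
    refine S.pow_four hb (U := R ⊔ AddSubgroup.zmultiples c') le_sup_left ?_ ?_ ?_
    · intro w
      by_cases hw : h⁻¹ • w ∈ cmR R (zpowers b)
      · exact (le_sup_left : R ≤ _) (hA' hw)
      · have h1 := hB' hw
        have e : b' • w + w = (b' • w + w + c') + c' := by rw [add_assoc _ c' c', S.two, add_zero]
        rw [e]
        exact AddSubgroup.add_mem _ ((le_sup_left : R ≤ _) h1)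
          ((le_sup_right : AddSubgroup.zmultiples c' ≤ _) (AddSubgroup.mem_zmultiples c'))
    · intro u hu
      have hle : R ⊔ AddSubgroup.zmultiples c' ≤ cmR R (zpowers b) := by
        refine sup_le ?_ ?_
        · intro r hr
          exact hmem.2 (by rw [S.fixR b r hr, S.two]; exact R.zero_mem)
        · rw [AddSubgroup.zmultiples_le]
          exact hcon
      exact hA (hle hu)
    · intro u hu
      have hle : R ⊔ AddSubgroup.zmultiples c' ≤ cmR R (zpowers b') := by
        refine sup_le ?_ ?_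
        · intro r hr
          exact (mem_cmR_zpowers hb'2 S.two).2 (by rw [S.fixR b' r hr, S.two]; exact R.zero_mem)
        · rw [AddSubgroup.zmultiples_le, mem_cmR_zpowers hb'2 S.two]
          have e : b' • c' = c' := by rw [hsm, hc', inv_smul_smul, hcf]
          rw [e, S.two]
          exact R.zero_mem
      exact (mem_cmR_zpowers hb'2 S.two).1 (hle hu)
  -- `h⁻¹ c ∉ K`
  have hcK' : h⁻¹ • c ∉ cmR R (zpowers b) := by
    intro hcon
    have h4 : (b' * b) ^ 4 = 1 := by
      refine S.pow_four hb'2 (U := R ⊔ AddSubgroup.zmultiples c) le_sup_left ?_ ?_ ?_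
      · intro w
        by_cases hw : w ∈ cmR R (zpowers b)
        · exact (le_sup_left : R ≤ _) (hA hw)
        · have h1 := hB hw
          have e : b • w + w = (b • w + w + c) + c := by rw [add_assoc _ c c, S.two, add_zero]
          rw [e]
          exact AddSubgroup.add_mem _ ((le_sup_left : R ≤ _) h1)
            ((le_sup_right : AddSubgroup.zmultiples c ≤ _) (AddSubgroup.mem_zmultiples c))
      · intro u hu
        have hle : R ⊔ AddSubgroup.zmultiples c ≤ cmR R (zpowers b') := by
          refine sup_le ?_ ?_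
          · intro r hr
            exact (mem_cmR_zpowers hb'2 S.two).2 (by rw [S.fixR b' r hr, S.two]; exact R.zero_mem)
          · rw [AddSubgroup.zmultiples_le, mem_cmR_zpowers hb'2 S.two]
            exact hA' hcon
        exact (mem_cmR_zpowers hb'2 S.two).1 (hle hu)
      · intro u hu
        have hle : R ⊔ AddSubgroup.zmultiples c ≤ cmR R (zpowers b) := by
          refine sup_le ?_ ?_
          · intro r hr
            exact hmem.2 (by rw [S.fixR b r hr, S.two]; exact R.zero_mem)
          · rw [AddSubgroup.zmultiples_le]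
            exact hcK
        exact hA (hle hu)
    apply hne
    have e : b * b' = (b' * b)⁻¹ := by
      rw [mul_inv_rev, hbinv, inv_eq_of_mul_eq_one_left hb'2]
    rw [e, inv_pow, h4, inv_one]
  -- the points of the orbit
  have hpt : ∀ x : X, x • θ ∈ cmR R (zpowers b) → b • x • θ = x • θ := fun x hx => m1 x (hA hx)
  have hfix_add : ∀ {v w : W}, b • v = v → b • w = w → b • (v + w) = v + w := by
    intro v w hv hw
    rw [smul_add, hv, hw]
  have hfixR : ∀ r ∈ R, b • r = r := fun r hr => S.fixR b r hr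
  -- if `v` is congruent to `w + c + c'` or `w + c'` modulo `R`
  have hkey : ∀ x : X, b • x • θ = x • θ ∨ b • (x • θ + c') = x • θ + c' := by
    intro x
    by_cases hx : x • θ ∈ cmR R (zpowers b)
    · exact Or.inl (hpt x hx)
    right
    by_cases hx' : h⁻¹ • x • θ ∈ cmR R (zpowers b)
    · -- `f(v) = 1`, `f'(v) = 0`
      have h1 := hB hx
      set r₁ := b • x • θ + x • θ + c with hr₁
      have e1 : b • x • θ = x • θ + c + r₁ := by
        rw [hr₁]
        calc b • x • θ = b • x • θ + (x • θ + x • θ) + (c + c) := by rw [S.two, S.two, add_zero, add_zero]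
          _ = _ := by abel
      have h2 : h⁻¹ • (x • θ + c) ∉ cmR R (zpowers b) := by
        rw [smul_add]
        intro hcon
        apply hcK'
        have e : h⁻¹ • c = h⁻¹ • x • θ + (h⁻¹ • x • θ + h⁻¹ • c) := by
          rw [← add_assoc, S.two, zero_add]
        rw [e]
        exact AddSubgroup.add_mem _ hx' hcon
      have h3 := hB' h2
      set r₂ := b' • (x • θ + c) + (x • θ + c) + c' with hr₂
      have e2 : b' • b • x • θ = x • θ + c' + (c + r₂ + r₁) := by
        rw [e1, smul_add, S.fixR b' r₁ h1, hr₂]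
        calc b' • (x • θ + c) + r₁
            = b' • (x • θ + c) + ((x • θ + c) + (x • θ + c)) + (c' + c') + r₁ + (c + c) := by
              rw [S.two, S.two, S.two, add_zero, add_zero, add_zero]
          _ = x • θ + c' + (c + (b' • (x • θ + c) + (x • θ + c) + c') + r₁) + (c + c) := by abel
          _ = _ := by rw [S.two, add_zero]
      have h4 : (b' * b * x) • θ ∈ cmR R (zpowers b) := by
        rw [mul_smul, mul_smul, e2]
        refine AddSubgroup.add_mem _ (hadd hx hc'K) (AddSubgroup.add_mem _ (AddSubgroup.add_mem _ hcK ?_) ?_)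
        · exact hmem.2 (by rw [S.fixR b r₂ h3, S.two]; exact R.zero_mem)
        · exact hmem.2 (by rw [S.fixR b r₁ h1, S.two]; exact R.zero_mem)
      have h5 := hpt _ h4
      rw [mul_smul, mul_smul, e2] at h5
      have h6 : b • (c + r₂ + r₁) = c + r₂ + r₁ := hfix_add (hfix_add hcf (hfixR _ h3)) (hfixR _ h1)
      have e3 : x • θ + c' = (x • θ + c' + (c + r₂ + r₁)) + (c + r₂ + r₁) := by
        rw [add_assoc _ (c + r₂ + r₁) (c + r₂ + r₁), S.two, add_zero]
      rw [e3]
      exact hfix_add h5 h6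
    · -- `f(v) = 1 = f'(v)`
      have h1 := hB' hx'
      set r₁ := b' • x • θ + x • θ + c' with hr₁
      have e1 : b' • x • θ = x • θ + c' + r₁ := by
        rw [hr₁]
        calc b' • x • θ = b' • x • θ + (x • θ + x • θ) + (c' + c') := by rw [S.two, S.two, add_zero, add_zero]
          _ = _ := by abel
      have h4 : (b' * x) • θ ∈ cmR R (zpowers b) := by
        rw [mul_smul, e1]
        refine AddSubgroup.add_mem _ (hadd hx hc'K) ?_
        exact hmem.2 (by rw [S.fixR b r₁ h1, S.two]; exact R.zero_mem)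
      have h5 := hpt _ h4
      rw [mul_smul, e1] at h5
      have e3 : x • θ + c' = (x • θ + c' + r₁) + r₁ := by
        rw [add_assoc _ r₁ r₁, S.two, add_zero]
      rw [e3]
      exact hfix_add h5 (hfixR _ h1)
  refine ⟨c', ?_⟩
  -- the subgroup `C_W(b) ∪ (C_W(b) + c')`
  let U : AddSubgroup W :=
    { carrier := {w | b • w = w ∨ b • (w + c') = w + c'}
      zero_mem' := Or.inl (smul_zero b)
      add_mem' := by
        rintro v w (hv | hv) (hw | hw)
        · exact Or.inl (hfix_add hv hw)
        · right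
          rw [add_assoc]
          exact hfix_add hv hw
        · right
          have e : v + w + c' = (v + c') + w := by abel
          rw [e]
          exact hfix_add hv hw
        · left
          have e : v + w = (v + c') + (w + c') := by
            calc v + w = v + w + (c' + c') := by rw [S.two, add_zero]
              _ = _ := by abel
          rw [e]
          exact hfix_add hv hw
      neg_mem' := by
        intro w hw
        have e : -w = w := neg_eq_of_add_eq_zero_left (S.two w)
        rw [e]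
        exact hw }
  have hU : U = ⊤ := S.gen U (fun r hr => Or.inl (hfixR r hr)) hkey
  intro w
  have : w ∈ U := by rw [hU]; exact AddSubgroup.mem_top w
  exact this

/-- two cosets cover: the index is at most 2 -/
theorem index_le_two_of (two : ∀ w : W, w + w = 0) {F : AddSubgroup W} {c' : W}
    (h : ∀ w : W, w ∈ F ∨ w + c' ∈ F) : F.index ≤ 2 := by
  have hs : Function.Surjective (fun i : Bool => if i then (QuotientAddGroup.mk 0 : W ⧸ F) else QuotientAddGroup.mk c') := by
    intro v
    obtain ⟨w, rfl⟩ := QuotientAddGroup.mk_surjective v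
    rcases h w with hw | hw
    · refine ⟨true, ?_⟩
      simp only [if_true]
      rw [QuotientAddGroup.eq, neg_zero, zero_add]
      exact hw
    · refine ⟨false, ?_⟩
      simp only [Bool.false_eq_true, if_false]
      rw [QuotientAddGroup.eq]
      have e : -c' + w = w + c' := by
        rw [neg_eq_of_add_eq_zero_left (two c'), add_comm]
      rw [e]
      exact hw
  have h1 := Nat.card_le_card_of_surjective _ hs
  have h2 : Nat.card Bool = 2 := by simp
  rw [h2] at h1
  exact h1

/-- **#23689 (2)-(4)** : an exact elementary abelian quadratic `E ≤ N`, `|E| ≥ 4`, with `m1`, contains an atom of `W / R`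
of order at least 4. -/
theorem SwR.exists_atR (hML : ML.Final.MLK.{u, v}) (S : SwR R θ T N) {E : Subgroup X} (EN : E ≤ N)
    (sq : ∀ e ∈ E, e * e = 1) (quad : ∀ a ∈ E, ∀ b ∈ E, ∀ w : W, a • (b • w + w) = b • w + w)
    (four : 4 ≤ Nat.card E) (off : (fxW E : AddSubgroup W).index ≤ Nat.card E)
    (min : ∀ C : Subgroup X, C ≤ E → C ≠ ⊥ → C ≠ E → Nat.card C < (fxW C : AddSubgroup W).index)
    (m1 : ∀ e ∈ E, ∀ x : X, e • x • θ + x • θ ∈ R → e • x • θ = x • θ) :
    (cmR R E = fxW E ∧ (cmR R E).index = Nat.card E) ∧ ∃ B ≤ E, AtR R N B := by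
  have := S.finX
  have := S.finW
  have : Fact (Nat.Prime 2) := ⟨Nat.prime_two⟩
  have hE1 : E ≠ ⊥ := by
    rintro rfl
    rw [Subgroup.card_bot] at four
    omega
  have hno : Nat.card E ≤ (cmR R E).index := S.no hML EN sq
  have hle : (fxW E : AddSubgroup W) ≤ cmR R E := fxW_le S.two E
  have hrel : (fxW E : AddSubgroup W).relIndex (cmR R E) * (cmR R E).index = (fxW E : AddSubgroup W).index :=
    AddSubgroup.relIndex_mul_index hle
  have hpos : 0 < (cmR R E).index := Nat.pos_of_ne_zero AddSubgroup.index_ne_zero_of_finite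
  have hrel0 : (fxW E : AddSubgroup W).relIndex (cmR R E) ≠ 0 := by
    intro h
    rw [h, zero_mul] at hrel
    exact AddSubgroup.index_ne_zero_of_finite hrel.symm
  have h1 : (cmR R E).index ≤ (fxW E : AddSubgroup W).index := by
    rw [← hrel]
    exact Nat.le_mul_of_pos_left _ (Nat.pos_of_ne_zero hrel0)
  have hex : (cmR R E).index = Nat.card E := le_antisymm (h1.trans off) hno
  have hrel1 : (fxW E : AddSubgroup W).relIndex (cmR R E) = 1 := by
    have h2 : (fxW E : AddSubgroup W).relIndex (cmR R E) * (cmR R E).index ≤ 1 * (cmR R E).index := by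
      rw [hrel, one_mul, hex]
      exact off
    have h3 := Nat.le_of_mul_le_mul_right h2 hpos
    omega
  have heq : cmR R E = fxW E := le_antisymm (AddSubgroup.relIndex_eq_one.1 hrel1) hle
  refine ⟨⟨heq, hex⟩, ?_⟩
  obtain ⟨B, hBE, hB1, hBex, hBat⟩ := exists_atom hE1 hex
    (fun C hC => S.no hML (hC.trans EN) fun c hc => sq c (hC hc))
  have hB2 : IsPGroup 2 B := S.N2.to_le (hBE.trans EN)
  have hB4 : 4 ≤ Nat.card B := by
    rcases card_cases hB2 hB1 with h2 | h4
    · exfalso
      obtain ⟨b, hbB, hb1, hgen⟩ := exists_gen_of_two h2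
      have hBz : B = zpowers b := by
        refine le_antisymm (fun x hx => ?_) (by rw [zpowers_le]; exact hbB)
        rcases hgen x hx with rfl | rfl
        · exact one_mem _
        · exact mem_zpowers _
      have hix : (cmR R (zpowers b)).index = 2 := by rw [← hBz, hBex, h2]
      obtain ⟨c', hc'⟩ := S.tw (sq b (hBE hbB)) hix (fun x hx => m1 b (hBE hbB) x hx)
      have hfx : ∀ w : W, b • w = w → w ∈ (fxW B : AddSubgroup W) := by
        intro w hw x hx
        rcases hgen x hx with rfl | rfl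
        · exact one_smul _ w
        · exact hw
      have h3 : (fxW B : AddSubgroup W).index ≤ 2 := by
        refine index_le_two_of S.two (c' := c') fun w => ?_
        rcases hc' w with h | h
        · exact Or.inl (hfx w h)
        · exact Or.inr (hfx _ h)
      have h4 : B ≠ E := by
        rintro rfl
        omega
      have h5 := min B hBE hB1 h4
      omega
    · exact h4
  refine ⟨B, hBE, ?_⟩
  exact
    { BN := hBE.trans EN
      sq := fun b hb => sq b (hBE hb)
      quad := by
        intro a ha b hb w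
        rw [quad a (hBE ha) b (hBE hb) w, S.two]
        exact R.zero_mem
      four := hB4
      exact := hBex
      atom := hBat }

/-- the end: a faithful section with (LA) -/
theorem SwR.exists_fs_of (hML : ML.Final.MLK.{u, v}) (S : SwR R θ T N) {E : Subgroup X} (EN : E ≤ N)
    (sq : ∀ e ∈ E, e * e = 1) (quad : ∀ a ∈ E, ∀ b ∈ E, ∀ w : W, a • (b • w + w) = b • w + w)
    (four : 4 ≤ Nat.card E) (off : (fxW E : AddSubgroup W).index ≤ Nat.card E)
    (min : ∀ C : Subgroup X, C ≤ E → C ≠ ⊥ → C ≠ E → Nat.card C < (fxW C : AddSubgroup W).index)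
    (m1 : ∀ e ∈ E, ∀ x : X, e • x • θ + x • θ ∈ R → e • x • θ = x • θ) :
    ∃ (X' : Type u) (_ : Group X') (W' : Type v) (_ : AddCommGroup W') (_ : DistribMulAction X' W')
      (R' : AddSubgroup W') (θ' : W') (T' B' : Subgroup X'), FsR R' θ' T' B' ∧ LaR R' θ' T' := by
  obtain ⟨_, B, _, hB⟩ := S.exists_atR hML EN sq quad four off min m1
  exact S.exists_fs hML hB

end Cfsg.Agent.Omega.FOne.QR

end

end

-- merged: Cfsg.Agent.Mrg.Omega.NO3S.FarB.FOneR
section

section


/-!
# (F1), `q ≥ 4`, every stage: the socket `FOneB` from an abstract statement about `(H, W, R, V)`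

* `RDat T A V R π` : `H` acts on `W`, centralises `R`, is faithful on `M = W / R`, `lam = V / R`, `C_W(T) ≤ R`, `A ≠ 1` exact
  in `O₂(C_H(lam))`, liftwise fixed points (helper81's `FOne.Q.Hyp` with `fixM` replaced by `cent`);
* `FOneR` : `RDat` is contradictory;
* **`fOneB_of_R`** : `MLK → FOneR → NO3S.FOneB K` (every stage, `n ≥ 1`).
-/

set_option autoImplicit false
set_option linter.unusedSectionVars false

namespace Cfsg.Agent.Omega.NO3S.FarB

open Subgroup Cfsg Cfsg.Agent.Omega.NO3S.PT
open Cfsg.Agent.ZN (o2)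
open Cfsg.Agent.MinSimple.VModule (o2_le)
open Cfsg.Agent.Omega.NO3S.PtGeom (Pt)
open Cfsg.Agent.Omega.NO3S.FarQ (FlagK NoOv KNO Img Exact zm fixer kno_of_mlk)
open Cfsg.Agent.Omega.NO3S.FarQ.FOne (Off ph rh img mem_img mem_img_of card_img rho_one rho_inv eq_of_rho
  cent_conj pi_inv)
open Cfsg.Agent.Omega.ML.Final (MLK)
open Cfsg.Agent.Omega.Frame (Cls)
open Cfsg.Agent.ClassTwoFusion.Quad (cv mem_cv cv_anti)
open scoped Pointwise

universe u

/-- **The data at the point `R`** (every stage). -/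
structure RDat {H W M : Type u} [Group H] [CommGroup W] [MulDistribMulAction H W] [CommGroup M]
    [MulDistribMulAction H M] (T A : Subgroup H) (V R : Subgroup W) (π : W →* M) : Prop where
  known : IsKGroupWith IsKnownSimple' H
  finW : Finite W
  sq : ∀ w : W, w * w = 1
  surj : Function.Surjective π
  dat : FarQ.FOneAbs.Dat T V R π
  flag : FlagK T (V.map π)
  full : ∀ v ∈ V, v ∉ R → ∀ r ∈ R, ∃ t ∈ T, (t • v) * v⁻¹ = r
  /-- `C_W(T) ≤ R` -/
  cent : ∀ w : W, (∀ t ∈ T, t • w = w) → w ∈ R
  ex : Exact (V.map π) A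
  AV : ∀ x ∈ A, ∀ v ∈ V, x • v = v
  fix : ∀ w : W, (∀ x ∈ A, x • π w = π w) → ∀ x ∈ A, x • w = w

/-- **(F1) for `q ≥ 4`, abstract form, every stage.** -/
def FOneR : Prop :=
  ∀ (H W M : Type u) [Group H] [CommGroup W] [MulDistribMulAction H W] [CommGroup M] [MulDistribMulAction H M]
    (T A : Subgroup H) (V R : Subgroup W) (π : W →* M), RDat T A V R π → False

section main

variable {G : Type u} [Group G] [Finite G] {S : Sylow 2 G} {B₀ P V Z : Subgroup G} (h : PB S B₀ P V Z)
variable {H M : Type u} [Group H] [CommGroup M] [MulDistribMulAction H M] {ρ : G → H} {π : G → M}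
include h

/-- **The contradiction at the base flag.** -/
theorem false_baseR (r : FarQ.Real V Z ρ π) (hR : FOneR.{u}) (hKG : IsKGroupWith IsKnownSimple' H)
    (hf : kx V Z ≤ centralizer (V : Set G)) {B : Subgroup G} (hB : Off V V Z B)
    (hne : ¬ B ≤ centralizer (ws V Z : Set G))
    (hle : (centralizer (B : Set G)).relIndex (ws V Z) ≤ (centralizer (ws V Z : Set G)).relIndex B)
    (hNO : ∀ A : Subgroup H, A ≤ o2 (fixer ((V.subgroupOf (ws V Z)).map (ph r))) →
      (∀ a ∈ A, ∀ b ∈ A, a * b = b * a) → (∀ a ∈ A, a * a = 1) →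
      (∀ a ∈ A, ∀ b ∈ A, ∀ m : M, b • ((a • m) * m⁻¹) = (a • m) * m⁻¹) → Nat.card A ≤ (zm M A).index)
    (hF : FlagK (FOne.tt h r) ((V.subgroupOf (ws V Z)).map (ph r))) : False := by
  have hBC := FOne.Off.le_cent h hB
  set A := img r hBC with hA
  have hkc := FOne.kx_le h hf
  have hke := FOne.kx_eq h hf
  have hcard : Nat.card A = (centralizer (ws V Z : Set G)).relIndex B := by rw [hA, card_img r hBC, hke]
  have hcomm : ∀ a ∈ A, ∀ b ∈ A, a * b = b * a := by
    intro x hx y hy
    obtain ⟨a, ha, rfl⟩ := (mem_img r).1 hx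
    obtain ⟨b, hb, rfl⟩ := (mem_img r).1 hy
    rw [← r.mulρ _ (hBC ha) _ (hBC hb), ← r.mulρ _ (hBC hb) _ (hBC ha), hB.comm a ha b hb]
  have hsq : ∀ a ∈ A, a * a = 1 := by
    intro x hx
    obtain ⟨a, ha, rfl⟩ := (mem_img r).1 hx
    rw [← r.mulρ _ (hBC ha) _ (hBC ha), hB.sq a ha, rho_one r]
  have hact : ∀ a ∈ B, ∀ w ∈ ws V Z, (ρ a • π w) * (π w)⁻¹ = π (a * w * a⁻¹ * w⁻¹) := by
    intro a ha w hw
    rw [← r.act a (hBC ha) w hw, ← pi_inv r hw, ← r.mulπ _ (cent_conj r (hBC ha) hw) _ (inv_mem hw)]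
  have hcW : ∀ a ∈ B, ∀ w ∈ ws V Z, a * w * a⁻¹ * w⁻¹ ∈ ws V Z := fun a ha w hw =>
    mul_mem (cent_conj r (hBC ha) hw) (inv_mem hw)
  have hquad : ∀ a ∈ A, ∀ b ∈ A, ∀ m : M, b • ((a • m) * m⁻¹) = (a • m) * m⁻¹ := by
    intro x hx y hy m
    obtain ⟨a, ha, rfl⟩ := (mem_img r).1 hx
    obtain ⟨b, hb, rfl⟩ := (mem_img r).1 hy
    obtain ⟨w, hw, rfl⟩ := r.surjπ m
    rw [hact a ha w hw, ← r.act b (hBC hb) _ (hcW a ha w hw), hB.comm b hb _ (hB.nor a ha w hw),
      mul_inv_cancel_right]
  have hAle : A ≤ o2 (fixer ((V.subgroupOf (ws V Z)).map (ph r))) := FOne.img_le h r hB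
  have h1 := hNO A hAle hcomm hsq hquad
  have hsurj : Function.Surjective (ph r) := fun m => by
    obtain ⟨w, hw, rfl⟩ := r.surjπ m
    exact ⟨⟨w, hw⟩, rfl⟩
  have h2 := index_comap_of_surjective (zm M A) hsurj
  have h3 : (centralizer (B : Set G)).subgroupOf (ws V Z) ≤ (zm M A).comap (ph r) := by
    intro w hw
    rw [mem_comap, mem_cv]
    intro x hx
    obtain ⟨a, ha, rfl⟩ := (mem_img r).1 hx
    have h4 := hact a ha w w.2
    have h5 : a * w * a⁻¹ * (w : G)⁻¹ = 1 := by
      have h6 := mem_centralizer_iff.1 (mem_subgroupOf.1 hw) a ha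
      rw [h6, mul_inv_cancel_right, mul_inv_cancel]
    rw [h5] at h4
    have h7 : π 1 = 1 := (ph r).map_one
    rw [h7, mul_inv_eq_one] at h4
    exact h4
  have h4 : ((zm M A).comap (ph r)).index ≤ ((centralizer (B : Set G)).subgroupOf (ws V Z)).index :=
    Nat.le_of_dvd (Nat.pos_of_ne_zero index_ne_zero_of_finite) (index_dvd_of_le h3)
  have h5 : ((centralizer (B : Set G)).subgroupOf (ws V Z)).index ≤ Nat.card A := by
    rw [hcard]; exact hle
  have h6 : (zm M A).comap (ph r) ≤ (centralizer (B : Set G)).subgroupOf (ws V Z) :=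
    FOne.le_of_index_le h3 (by omega)
  have hex : Exact ((V.subgroupOf (ws V Z)).map (ph r)) A := by
    refine ⟨fun e => hne fun b hb => ?_, hAle, hcomm, hsq, hquad, by omega⟩
    have h7 : ρ b ∈ A := mem_img_of r hb
    rw [e, mem_bot] at h7
    exact hkc ((r.kerρ b (hBC hb)).1 h7)
  -- the action on `W`
  choose σ hσ1 hσ2 using r.surjρ
  let _ : CommGroup (ws V Z) :=
    { (inferInstance : Group (ws V Z)) with
      mul_comm := fun a b => Subtype.ext (mem_centralizer_iff.1 (h.Wcomm b.2) a a.2) }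
  let _ : MulDistribMulAction H (ws V Z) :=
    { smul := fun x w => ⟨σ x * w * (σ x)⁻¹, cent_conj r (hσ1 x) w.2⟩
      one_smul := fun w => Subtype.ext (by
        show σ 1 * (w : G) * (σ 1)⁻¹ = w
        rw [eq_of_rho r (hσ1 1) (one_mem _) hkc ((hσ2 1).trans (rho_one r).symm) w.2]
        group)
      mul_smul := fun x y w => Subtype.ext (by
        show σ (x * y) * (w : G) * (σ (x * y))⁻¹ = σ x * (σ y * w * (σ y)⁻¹) * (σ x)⁻¹
        rw [eq_of_rho r (hσ1 (x * y)) (mul_mem (hσ1 x) (hσ1 y)) hkc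
          (by rw [hσ2, r.mulρ _ (hσ1 x) _ (hσ1 y), hσ2, hσ2]) w.2]
        group)
      smul_mul := fun x w w' => Subtype.ext (by
        show σ x * ((w : G) * w') * (σ x)⁻¹ = σ x * w * (σ x)⁻¹ * (σ x * w' * (σ x)⁻¹)
        group)
      smul_one := fun x => Subtype.ext (by
        show σ x * (1 : G) * (σ x)⁻¹ = 1
        group) }
  have hsm : ∀ a ∈ centralizer (Z : Set G), ∀ w : ws V Z, ((ρ a • w : ws V Z) : G) = a * w * a⁻¹ := by
    intro a ha w
    show σ (ρ a) * (w : G) * (σ (ρ a))⁻¹ = a * w * a⁻¹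
    exact eq_of_rho r (hσ1 _) ha hkc (hσ2 _) w.2
  have D : FarQ.FOneAbs.Dat (FOne.tt h r) (V.subgroupOf (ws V Z)) (Z.subgroupOf (ws V Z)) (ph r) := by
    refine ⟨FOne.finite_H r, fun w => r.kerπ w w.2, ?_, ?_, ?_, ?_, ?_, ?_, ?_⟩
    · intro x w
      show π (σ x * w * (σ x)⁻¹) = x • π w
      rw [r.act _ (hσ1 x) w w.2, hσ2]
    · intro x w hw
      refine Subtype.ext ?_
      show σ x * (w : G) * (σ x)⁻¹ = w
      rw [← mem_centralizer_iff.1 (hσ1 x) w hw, mul_inv_cancel_right]
    · intro t ht v hv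
      obtain ⟨s, hs, rfl⟩ := (mem_img r).1 ht
      rw [mem_subgroupOf]
      show ((ρ s • v : ws V Z) : G) * (v : G)⁻¹ ∈ Z
      rw [hsm s (h.B_le hs)]
      exact h.act s hs v hv
    · intro w hw
      exact h.ZV hw
    · intro t ht v hv hvZ e u hu
      obtain ⟨s, hs, rfl⟩ := (mem_img r).1 ht
      have e1 := congrArg Subtype.val e
      rw [hsm s (h.B_le hs)] at e1
      refine Subtype.ext ?_
      rw [hsm s (h.B_le hs)]
      have e2 := h.free s hs v hv (fun e => hvZ e) (mul_inv_eq_iff_eq_mul.1 e1) u hu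
      rw [e2, mul_inv_cancel_right]
    · obtain ⟨Y, hY, hYV, hYne⟩ := h.exists_second h.isCj_self h.ZV
      obtain ⟨v, hv, hv1⟩ := h.pt_ne_bot hY
      have hvZ : v ∉ Z := fun e => hYne (h.pts_eq hY h.isCj_self hv e hv1)
      obtain ⟨z, hz, hz1⟩ := h.pt_ne_bot h.isCj_self
      obtain ⟨s, hs, hsz⟩ := h.full v (hYV hv) hvZ z hz
      refine ⟨ρ s, mem_img_of r hs, ⟨v, h.V_le_ws h.ZV (hYV hv)⟩, hYV hv, fun e => hz1 ?_⟩
      have e1 := congrArg Subtype.val e
      rw [hsm s (h.B_le hs)] at e1
      rw [← hsz, mul_inv_eq_one]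
      exact e1
    · intro x hx v hv
      have h7 := FOne.norm_V h r hf (hσ1 x) (by rw [hσ2]; exact hx)
      rw [mem_subgroupOf]
      show σ x * (v : G) * (σ x)⁻¹ ∈ V
      exact (mem_normalizer_iff.1 h7 v).1 hv
  refine hR H (ws V Z) M (FOne.tt h r) A (V.subgroupOf (ws V Z)) (Z.subgroupOf (ws V Z)) (ph r)
    { known := hKG
      finW := inferInstance
      sq := ?_
      surj := hsurj
      dat := D
      flag := hF
      full := ?_
      cent := ?_
      ex := hex
      AV := ?_
      fix := ?_ }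
  · intro w
    exact Subtype.ext (PB.Geom.ws_sq_pt h h.isCj_self w w.2)
  · intro v hv hvZ z hz
    obtain ⟨s, hs, e⟩ := h.full v hv (fun e => hvZ e) z hz
    refine ⟨ρ s, mem_img_of r hs, Subtype.ext ?_⟩
    show ((ρ s • v : ws V Z) : G) * (v : G)⁻¹ = z
    rw [hsm s (h.B_le hs)]
    exact e
  · intro w hw
    rw [mem_subgroupOf]
    refine h.omega w ?_ (PB.Geom.ws_sq_pt h h.isCj_self w w.2) fun s hs => ?_
    · exact h.ws_le_B w.2
    · have e := congrArg Subtype.val (hw (ρ s) (mem_img_of r hs))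
      rw [hsm s (h.B_le hs)] at e
      exact mul_inv_eq_iff_eq_mul.1 e
  · intro x hx v hv
    obtain ⟨b, hb, rfl⟩ := (mem_img r).1 hx
    refine Subtype.ext ?_
    rw [hsm b (hBC hb)]
    have h8 := mem_centralizer_iff.1 (o2_le _ (hB.le hb)) v hv
    rw [← h8, mul_inv_cancel_right]
  · intro w hw x hx
    obtain ⟨b, hb, rfl⟩ := (mem_img r).1 hx
    have h7 : w ∈ (zm M A).comap (ph r) := by
      rw [mem_comap, mem_cv]
      exact hw
    have h8 := mem_centralizer_iff.1 (mem_subgroupOf.1 (h6 h7)) b hb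
    refine Subtype.ext ?_
    rw [hsm b (hBC hb), h8, mul_inv_cancel_right]

/-- **(F1) for `q ≥ 4`** at a critical pair. -/
theorem hf_ofR (hML : MLK.{u, u}) (hR : FOneR.{u}) (hq : 4 ≤ Nat.card Z)
    (hKC : ∀ (H : Type u) [Group H], Img (centralizer (Z : Set G)) H → IsKGroup H) {n : ℕ} (hn : 1 ≤ n)
    {x y : Pt Z} (hc : NOThree.Pts.Crit (PtGeom.inc (Z := Z) (V := V)) (fun x : Pt Z => ws V x.sg) n x y) :
    ¬ kx V Z ≤ centralizer (V : Set G) := by
  intro hf
  obtain ⟨H, M, iH, iM, iA, ρ, π, r⟩ := exists_real h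
  let T : Subgroup H := FOne.tt h r
  have hT : ∀ x, x ∈ T ↔ ∃ s ∈ B₀, ρ s = x := fun x => FarQ.FOne.mem_img r
  let lam : Subgroup M := (V.subgroupOf (ws V Z)).map (FarQ.FOne.ph r)
  have hlam : ∀ m, m ∈ lam ↔ ∃ v ∈ V, π v = m := fun m => FOne.ph_V_mem h r
  have hK := flagK_of h r hq hT hlam
  have hI : Img (centralizer (Z : Set G)) H := FarQ.img_of_real r
  have hKG : IsKGroup H := hKC H hI
  have hNO := kno_of_mlk hML H M T lam hKG hK
  obtain ⟨g, hg, hB⟩ := FOne.off_of_crit h hn hc
  obtain ⟨g', hg', hB'⟩ := FOne.off_of_crit h hn hc.symm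
  have hb := hB.conj g⁻¹
  have hb' := hB'.conj g'⁻¹
  rw [cj_cj, cj_cj, inv_mul_cancel, cj_one, cj_one] at hb hb'
  have h1 := FOne.relIndex_le h r hf hb' hNO
  -- `|W_y : C(W_x)| ≤ |W_x : C(W_y)|`
  have e1 : cj g (cj g⁻¹ (ws V x.sg)) = ws V x.sg := by rw [cj_cj, mul_inv_cancel, cj_one]
  have e2 : cj g' (cj g'⁻¹ (ws V y.sg)) = ws V y.sg := by rw [cj_cj, mul_inv_cancel, cj_one]
  have e3 : ws V y.sg = cj g (ws V Z) := by rw [hg, ws_cj]
  have e4 : ws V x.sg = cj g' (ws V Z) := by rw [hg', ws_cj]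
  rw [← FOne.cent_relIndex_conj g' (ws V Z), ← FOne.cent_relIndex_conj g' (cj g'⁻¹ (ws V y.sg)), e2, ← e4] at h1
  refine false_baseR h r hR hKG hf hb ?_ ?_ hNO hK
  · intro hcon
    apply hc.ne
    intro a ha b hbm
    have h2 : ws V x.sg ≤ centralizer (ws V y.sg : Set G) := by
      rw [← e1, e3, ← cj_centralizer, cj_le_cj]
      exact hcon
    exact (mem_centralizer_iff.1 (h2 ha) b hbm).symm
  · rw [← FOne.cent_relIndex_conj g (ws V Z), ← FOne.cent_relIndex_conj g (cj g⁻¹ (ws V x.sg)), e1, ← e3]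
    exact h1

end main

/-- **The socket `FOneB`** (every stage) from (ML) and `FOneR`. -/
theorem fOneB_of_R {K : Cls.{u}} (hML : MLK.{u, u}) (hR : FOneR.{u}) : NO3S.FOneB K := by
  intro G _ _ _ S P h F _ _ _ hF _ B R hB n y hn hc
  exact Or.inl (hf_ofR hB.pb hML hR (hB.card.symm ▸ hF)
    (fun H _ hI => FarQ.kgroup_of_img h.toHyp.ctx.kproper (centralizer_ne_top h.toHyp hB.pb.Zne) H hI) hn
    (PB.Geom.crit hB.pb hB.pb.V_eq hc))

end Cfsg.Agent.Omega.NO3S.FarB

end

section


/-!
# (F1), the K-route for `R` of any size: the front (helper232; copy of helper81's `FOne.Q.Abs` at the `R`-level)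

* `Front.exists_atom` : an exact subgroup contains an atom;
* `Front.tv_of_index_two` : an exact subgroup of order 2 consists of transvections modulo `R`;
* **`front`** : `RDat` (every stage) ⟹ `SwR`, `AtR` for the submodule generated by one vector of `lam`.
-/

set_option autoImplicit false
set_option linter.unusedSectionVars false

namespace Cfsg.Agent.Omega.FOne.QR

open Subgroup Cfsg
open Cfsg.Agent.ClassTwoFusion.Quad (cv mem_cv)
open Cfsg.Agent.Omega.NO3S.FarQ (FlagK Exact zm fixer)
open Cfsg.Agent.Omega.NO3S.FarQ.FOneAbs (Dat)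
open Cfsg.Agent.Omega.NO3S.FarB (RDat)
open Cfsg.Agent.Omega.ML.MinFrame (orb fxr)
open Cfsg.Agent.ZN (o2)
open Cfsg.Agent.MinSimple.VModule (o2_le o2_isPGroup le_normalizer_o2)

universe u v

section pure

variable {H : Type u} [Group H] {W : Type v} [AddCommGroup W] [DistribMulAction H W] {R : AddSubgroup W}

/-- An exact subgroup `≠ 1` contains an atom. -/
theorem Front.exists_atom [Finite H] {A : Subgroup H} (A1 : A ≠ ⊥) (hex : (cmR R A).index = Nat.card A)
    (hno : ∀ C : Subgroup H, C ≤ A → Nat.card C ≤ (cmR R C).index) :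
    ∃ B : Subgroup H, B ≤ A ∧ B ≠ ⊥ ∧ (cmR R B).index = Nat.card B ∧
      ∀ C : Subgroup H, C ≤ B → C ≠ ⊥ → C ≠ B → Nat.card C < (cmR R C).index := by
  have hfin : Finite (Subgroup H) := inferInstance
  obtain ⟨B, hB⟩ := (Set.toFinite {B : Subgroup H | B ≤ A ∧ B ≠ ⊥ ∧ (cmR R B).index = Nat.card B}).exists_minimal
    ⟨A, le_rfl, A1, hex⟩
  obtain ⟨h1, h2, h3⟩ := hB.prop
  refine ⟨B, h1, h2, h3, fun C hC hC1 hCB => lt_of_le_of_ne (hno C (hC.trans h1)) fun h4 => hCB ?_⟩
  exact le_antisymm hC (hB.le_of_le (y := C) ⟨hC.trans h1, hC1, h4.symm⟩ hC)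

/-- `|W / R : C(B)| = 2` : transvections modulo `R` -/
theorem Front.tv_of_index_two {B : Subgroup H} (h2 : (cmR R B).index = 2) {b : H} (hb : b ∈ B) (v w : W) :
    b • v + v ∈ R ∨ b • w + w ∈ R ∨ b • (v + w) + (v + w) ∈ R := by
  by_cases hv : v ∈ cmR R B
  · exact Or.inl (hv b hb)
  · by_cases hw : w ∈ cmR R B
    · exact Or.inr (Or.inl (hw b hb))
    · refine Or.inr (Or.inr ?_)
      have h : v + w ∈ cmR R B := (AddSubgroup.add_mem_iff_of_index_two h2).2 ⟨fun h => absurd h hv, fun h => absurd h hw⟩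
      exact h b hb

end pure

section main

variable {H W M : Type u} [Group H] [CommGroup W] [MulDistribMulAction H W] [CommGroup M]
  [MulDistribMulAction H M]

/-- the action on `U`, additively -/
@[reducible] def actA {U : Subgroup W} (hU : ∀ h : H, ∀ w ∈ U, h • w ∈ U) : DistribMulAction H (Additive U) where
  smul h w := Additive.ofMul ⟨h • ((Additive.toMul w : U) : W), hU h _ (Additive.toMul w).2⟩
  one_smul w := congrArg Additive.ofMul (Subtype.ext (one_smul H ((Additive.toMul w : U) : W)))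
  mul_smul g h w := congrArg Additive.ofMul (Subtype.ext (mul_smul g h ((Additive.toMul w : U) : W)))
  smul_zero g := congrArg Additive.ofMul (Subtype.ext (smul_one g))
  smul_add g v w := congrArg Additive.ofMul (Subtype.ext (smul_mul' g ((Additive.toMul v : U) : W)
    ((Additive.toMul w : U) : W)))

/-- **The front**: `RDat` at any stage gives the situation of the reduction. -/
theorem front (hML : ML.Final.MLK.{u, u}) {T A : Subgroup H} {V R : Subgroup W} {π : W →* M}
    (P : RDat T A V R π) :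
    ∃ (W' : Type u) (_ : AddCommGroup W') (_ : DistribMulAction H W') (R' : AddSubgroup W') (θ : W')
      (N B : Subgroup H), SwR R' θ T N ∧ AtR R' N B := by
  classical
  have hfW := P.finW
  have D := P.dat
  have F := P.flag
  have hfH := F.finH
  have hfM := F.finM
  -- `R` is centralised, `π` is equivariant
  have hcm : ∀ (x : H) (w : W), (x • w) * w⁻¹ ∈ R ↔ x • π w = π w := by
    intro x w
    rw [← D.ker, map_mul, map_inv, D.equi, mul_inv_eq_one]
  have hlm : ∀ v ∈ V, π v ∈ V.map π := fun v hv => mem_map_of_mem π hv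
  have hlin : ∀ (h : H) (v : W), v ∈ V → v ∉ R → h • π v = π v → ∀ b ∈ V.map π, h • b = b := by
    intro h v hv hvR e
    exact F.lin _ (hlm v hv) (fun e1 => hvR ((D.ker v).1 e1)) h e
  -- an element fixing one vector of `lam ^ g` fixes all of them
  have hlin' : ∀ (x g : H) (v : W), v ∈ V → v ∉ R → x • g • π v = g • π v → ∀ b ∈ V.map π, x • g • b = g • b := by
    intro x g v hv hvR e b hb
    have h1 : (g⁻¹ * x * g) • π v = π v := by
      rw [mul_smul, mul_smul, e, inv_smul_smul]
    have h2 := hlin _ v hv hvR h1 b hb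
    rw [mul_smul, mul_smul, inv_smul_eq_iff] at h2
    exact h2
  have htriv : ∀ x : H, (∀ g : H, ∀ b ∈ V.map π, x • g • b = g • b) → x = 1 := by
    intro x hx
    refine F.faith x fun m => ?_
    let N : Subgroup M :=
      { carrier := {m | x • m = m}
        one_mem' := smul_one x
        mul_mem' := fun {a b} ha hb => by
          change x • (a * b) = a * b
          rw [smul_mul', ha, hb]
        inv_mem' := fun {a} ha => by
          change x • a⁻¹ = a⁻¹
          rw [smul_inv', ha] }
    have hN := F.gen N fun h a ha => hx h a ha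
    have : m ∈ N := by rw [hN]; exact mem_top m
    exact this
  -- a vector `a ∈ V - R`
  obtain ⟨t₀, ht₀, a, ha, hta⟩ := D.ne
  have haR : a ∉ R := fun h => hta (D.fixR t₀ a h)
  -- the module of `a`
  set Ma : Subgroup M := orb (⊤ : Subgroup H) (π a) with hMa
  set U : Subgroup W := Ma.comap π with hU
  have hMaH : ∀ (h : H), ∀ m ∈ Ma, h • m ∈ Ma := by
    intro h m hm
    have h1 : Ma ≤ Ma.comap (MulDistribMulAction.toMonoidHom M h) := by
      rw [hMa, orb, closure_le]
      rintro _ ⟨g, -, rfl⟩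
      change h • g • π a ∈ orb (⊤ : Subgroup H) (π a)
      rw [← mul_smul]
      exact subset_closure ⟨h * g, mem_top _, rfl⟩
    exact h1 hm
  have hUH : ∀ (h : H), ∀ w ∈ U, h • w ∈ U := by
    intro h w hw
    rw [hU, mem_comap, D.equi]
    exact hMaH h _ hw
  have hRU : R ≤ U := by
    intro r hr
    rw [hU, mem_comap, (D.ker r).2 hr]
    exact one_mem _
  have hgaU : ∀ h : H, h • a ∈ U := by
    intro h
    rw [hU, mem_comap, D.equi]
    exact subset_closure ⟨h, mem_top _, rfl⟩
  have haU : a ∈ U := by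
    have := hgaU 1
    rwa [one_smul] at this
  set lam := V.map π with hlam
  -- the additive module
  let act1 : DistribMulAction H (Additive U) := actA hUH
  let ι : Additive U → W := fun w => ((Additive.toMul w : U) : W)
  have ιadd : ∀ v w, ι (v + w) = ι v * ι w := fun _ _ => rfl
  have ιsm : ∀ (h : H) w, ι (h • w) = h • ι w := fun _ _ => rfl
  have ιU : ∀ w, ι w ∈ U := fun w => (Additive.toMul w : U).2
  have ιinj : ∀ v w, ι v = ι w → v = w := fun v w h => congrArg Additive.ofMul (Subtype.ext h : Additive.toMul v = Additive.toMul w)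
  let mk : ∀ w : W, w ∈ U → Additive U := fun w hw => Additive.ofMul ⟨w, hw⟩
  have ιmk : ∀ w hw, ι (mk w hw) = w := fun _ _ => rfl
  let R' : AddSubgroup (Additive U) := Subgroup.toAddSubgroup (R.subgroupOf U)
  have hR' : ∀ w, w ∈ R' ↔ ι w ∈ R := fun w => Iff.rfl
  have hinv : ∀ w : W, w⁻¹ = w := fun w => inv_eq_of_mul_eq_one_left (P.sq w)
  -- `x • w + w ∈ R'`
  have hcr : ∀ (x : H) (w : Additive U), x • w + w ∈ R' ↔ x • π (ι w) = π (ι w) := by
    intro x w
    rw [hR', ιadd, ιsm, ← hcm, hinv]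
  let θ : Additive U := mk a haU
  -- the group `N`
  let N : Subgroup H := o2 (fixer lam)
  have hAN : A ≤ N := P.ex.le
  have hgen : ∀ X : AddSubgroup (Additive U), R' ≤ X → (∀ x : H, x • θ ∈ X) → X = ⊤ := by
    intro X hRX hX
    rw [eq_top_iff]
    rintro w -
    let Y : Subgroup M :=
      { carrier := {m | ∃ u ∈ X, π (ι u) = m}
        one_mem' := ⟨0, X.zero_mem, by
          change π ((1 : U) : W) = 1
          rw [Subgroup.coe_one, map_one]⟩
        mul_mem' := by
          rintro _ _ ⟨u, hu, rfl⟩ ⟨v, hv, rfl⟩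
          exact ⟨u + v, X.add_mem hu hv, by rw [ιadd, map_mul]⟩
        inv_mem' := by
          rintro _ ⟨u, hu, rfl⟩
          exact ⟨u, hu, by rw [← map_inv, hinv]⟩ }
    have h1 : Ma ≤ Y := by
      rw [hMa, orb, closure_le]
      rintro _ ⟨g, -, rfl⟩
      exact ⟨g • θ, hX g, by rw [ιsm, D.equi]; rfl⟩
    obtain ⟨u, hu, e⟩ := h1 (ιU w)
    have h2 : w + u ∈ R' := by
      rw [hR', ιadd, ← D.ker, map_mul, e, ← map_mul, P.sq, map_one]
    have h3 := X.add_mem (hRX h2) hu
    have h4 : w + u + u = w := by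
      apply ιinj
      rw [ιadd, ιadd, mul_assoc, P.sq, mul_one]
    rwa [h4] at h3
  have S : SwR R' θ T N :=
    { known := P.known
      finX := hfH
      finW := inferInstance
      two := fun w => ιinj _ _ (P.sq (ι w))
      fixR := fun x r hr => ιinj _ _ (D.fixR x _ hr)
      faith := by
        intro x hx
        refine htriv x fun g b hb => hlin' x g a ha haR ?_ b hb
        have h1 := (hcr x (g • θ)).1 (hx _)
        rwa [ιsm, D.equi] at h1
      T2 := F.two
      syl := F.ndvd
      fixT := by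
        intro w hw
        exact P.cent _ fun t ht => congrArg ι (hw t ht)
      θR := haR
      Tθ := by
        intro t ht
        rw [hcr]
        exact F.fix t ht _ (hlm a ha)
      gen := hgen
      N2 := o2_isPGroup _
      Nθ := by
        intro n hn
        rw [hcr]
        exact o2_le _ hn _ (hlm a ha)
      Nn := by
        intro x hx n hn
        rw [hcr] at hx
        have h2 : x ∈ (fixer lam : Subgroup H) := hlin x a ha haR hx
        exact (mem_normalizer_iff.1 (le_normalizer_o2 _ h2) n).1 hn }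
  -- `A` is exact
  let f : Multiplicative (Additive U) →* M := MonoidHom.mk' (fun w => π (ι (Multiplicative.toAdd w))) fun v w => by
    rw [toAdd_mul, ιadd, map_mul]
  have hfr : f.range = Ma := by
    ext m
    constructor
    · rintro ⟨w, rfl⟩
      exact ιU (Multiplicative.toAdd w)
    · intro hm
      obtain ⟨w, rfl⟩ := P.surj m
      exact ⟨Multiplicative.ofAdd (mk w hm), rfl⟩
  have hcmA : AddSubgroup.toSubgroup (cmR R' A) = (zm M A).comap f := by
    ext w
    rw [mem_comap]
    change Multiplicative.toAdd w ∈ cmR R' A ↔ f w ∈ cv M (A : Set H)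
    rw [mem_cmR, mem_cv]
    exact forall₂_congr fun x _ => hcr x _
  have hrel : (cmR R' A).index = (zm M A).relIndex Ma := by
    have h1 : (AddSubgroup.toSubgroup (cmR R' A)).index = (zm M A).relIndex Ma := by
      rw [hcmA, index_comap, hfr]
    exact h1
  have hno : ∀ C : Subgroup H, C ≤ A → Nat.card C ≤ (cmR R' C).index := fun C hC =>
    S.no hML (hC.trans hAN) fun c hc => P.ex.sq c (hC hc)
  have hrs : (zm M A).relIndex (Ma ⊔ zm M A) = (zm M A).relIndex Ma := relIndex_sup_right _ _
  have hmul : (zm M A).relIndex (Ma ⊔ zm M A) * (Ma ⊔ zm M A).index = (zm M A).index :=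
    relIndex_mul_index le_sup_right
  rw [hrs, ← hrel] at hmul
  have hone : (Ma ⊔ zm M A).index = 1 := by
    have h1 := P.ex.card
    have h2 : 0 < (Ma ⊔ zm M A).index := Nat.pos_of_ne_zero index_ne_zero_of_finite
    have h0 := hno A le_rfl
    by_contra h3
    have h4 : 2 ≤ (Ma ⊔ zm M A).index := by omega
    have h5 : (cmR R' A).index * 2 ≤ (zm M A).index := by rw [← hmul]; exact Nat.mul_le_mul_left _ h4
    have h6 : 0 < Nat.card A := Nat.card_pos
    omega
  have hsup : Ma ⊔ zm M A = ⊤ := index_eq_one.1 hone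
  have hexA : (cmR R' A).index = Nat.card A := by
    rw [hone, mul_one] at hmul
    rw [hmul]; exact P.ex.card.symm
  -- the atom
  obtain ⟨B, hBA, hB1, hBex, hBat⟩ := Front.exists_atom P.ex.ne hexA hno
  refine ⟨Additive U, inferInstance, act1, R', θ, N, B, S, hBA.trans hAN, fun b hb => P.ex.sq b (hBA hb), ?_, ?_,
    hBex, hBat⟩
  · intro x hx z hz w
    rw [hcr, ιadd, ιsm, map_mul, D.equi]
    have h1 := P.ex.quad z (hBA hz) x (hBA hx) (π (ι w))
    have h2 : (π (ι w))⁻¹ = π (ι w) := by rw [← map_inv, hinv]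
    rwa [h2] at h1
  · -- `|B| = 2` is impossible
    by_contra h4
    have hB2 : IsPGroup 2 B := S.N2.to_le (hBA.trans hAN)
    have hcard : Nat.card B = 2 := by
      have : Fact (Nat.Prime 2) := ⟨Nat.prime_two⟩
      obtain ⟨n, hn⟩ := IsPGroup.iff_card.1 hB2
      match n, hn with
      | 0, hn =>
        exfalso
        apply hB1
        rw [pow_zero] at hn
        exact card_eq_one.1 hn
      | 1, hn => rw [hn, pow_one]
      | n + 2, hn =>
        exfalso
        apply h4
        rw [hn, pow_add]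
        have := Nat.one_le_two_pow (n := n)
        omega
    obtain ⟨g, hg, hg1⟩ : ∃ g ∈ B, g ≠ 1 := by
      by_contra hcon
      push Not at hcon
      exact hB1 ((eq_bot_iff_forall B).2 hcon)
    rw [hcard] at hBex
    -- on `Ma`
    have hgm : ∀ m ∈ Ma, ∀ n ∈ Ma, g • m = m ∨ g • n = n ∨ g • (m * n) = m * n := by
      intro m hm n hn
      obtain ⟨v, rfl⟩ := P.surj m
      obtain ⟨w, rfl⟩ := P.surj n
      have hv : v ∈ U := hm
      have hw : w ∈ U := hn
      have h1 := Front.tv_of_index_two hBex hg (mk v hv) (mk w hw)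
      rw [hcr, hcr, hcr, ιadd, ιmk, ιmk, map_mul] at h1
      exact h1
    have hgM : ∀ m n : M, g • m = m ∨ g • n = n ∨ g • (m * n) = m * n := by
      intro m n
      have h1 : ∀ m : M, ∃ m' ∈ Ma, ∃ c ∈ zm M A, m = m' * c := by
        intro m
        have : m ∈ Ma ⊔ zm M A := by rw [hsup]; exact mem_top m
        obtain ⟨x, hx, c, hc, e⟩ := mem_sup.1 this
        exact ⟨x, hx, c, hc, e.symm⟩
      obtain ⟨m', hm', c, hc, rfl⟩ := h1 m
      obtain ⟨n', hn', d, hd, rfl⟩ := h1 n
      have hc' : g • c = c := mem_cv.1 hc g (hBA hg)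
      have hd' : g • d = d := mem_cv.1 hd g (hBA hg)
      rcases hgm m' hm' n' hn' with h | h | h
      · left; rw [smul_mul', h, hc']
      · right; left; rw [smul_mul', h, hd']
      · right; right
        have e : m' * c * (n' * d) = m' * n' * (c * d) := mul_mul_mul_comm _ _ _ _
        rw [e, smul_mul' g (m' * n'), h, smul_mul', hc', hd']
    -- two independent elements of `lam`
    obtain ⟨b₁, hb₁, b₂, hb₂, n1, n2, n3⟩ : ∃ b₁ ∈ V, ∃ b₂ ∈ V, b₁ ∉ R ∧ b₂ ∉ R ∧ b₁ * b₂ ∉ R := by
      by_contra hcon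
      push Not at hcon
      have h1 : (lam : Set M) ⊆ (({1, π a} : Finset M) : Set M) := by
        rintro _ ⟨v, hv, rfl⟩
        simp only [Finset.coe_insert, Finset.coe_singleton, Set.mem_insert_iff, Set.mem_singleton_iff]
        by_cases hvR : v ∈ R
        · left; exact (D.ker v).2 hvR
        · right
          have h2 := hcon v hv a ha hvR haR
          have h3 := (D.ker _).2 h2
          rw [map_mul] at h3
          have h4 : π a * π a = 1 := F.sq _
          exact (mul_left_inj (π a)).1 (h3.trans h4.symm)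
      have h2 := Set.ncard_le_ncard h1 (Finset.finite_toSet _)
      rw [Set.ncard_coe_finset] at h2
      have h3 : (lam : Set M).ncard = Nat.card lam := rfl
      have h4 := Finset.card_le_two (a := (1 : M)) (b := π a)
      have h5 := F.four
      omega
    apply hg1
    refine htriv g fun h b hb => ?_
    rcases hgM (h • π b₁) (h • π b₂) with e | e | e
    · exact hlin' g h b₁ hb₁ n1 e b hb
    · exact hlin' g h b₂ hb₂ n2 e b hb
    · refine hlin' g h (b₁ * b₂) (V.mul_mem hb₁ hb₂) n3 ?_ b hb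
      rw [map_mul, smul_mul']
      exact e

end main

end Cfsg.Agent.Omega.FOne.QR

end

section


/-!
# (F1), `q ≥ 4`, over the `(R, B)`-frame: the socket `FOneB` from (ML) and the K-input on the blocks

* `fOneB_of_kps` : `NO3S.FOneB K` (`Node/NO3SLevel.lean`, every `n ≥ 1`) from `MLK` and `KPS` for K-groups (`front` of
  `FarB/Node.lean`, helper973).

(The socket `FarBF` is `FarQ.Free.farBF`, `Free/End.lean`.)
-/

set_option autoImplicit false
set_option linter.unusedSectionVars false

namespace Cfsg.Agent.Omega.NO3S.FarB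

open Subgroup Cfsg
open Cfsg.Agent.Omega.NO3S.FarQ (KPS)
open Cfsg.Agent.Omega.ML.Final (MLK)

universe u

/-- **(F1) from the K-input on the blocks.** -/
theorem fOneB_of_kps {K : Frame.Cls.{u}} (hML : MLK.{u, u}) (hPS : KPS.{u} (fun H _ => IsKGroup H)) :
    NO3S.FOneB K := by
  intro G _ _ _ S P h F _ _ _ hF _ B R hB n y hn hc
  exact Or.inl (front hML hPS h.toHyp hB.pb (hB.card.symm ▸ hF) hn hc)

end Cfsg.Agent.Omega.NO3S.FarB

end

end

-- merged: Cfsg.Agent.Mrg.Omega.FOne.ActR.End
section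

section


/-!
# (F1), the minimal parabolic case, closed form

`Sit.nmax` : an exact atom `B ≤ T` of order `≥ 4`, `C_W(T) ≤ ker p` : `T` is in at least two maximal subgroups of `X`.
-/

set_option autoImplicit false

namespace Cfsg.Agent.Omega.FOne.ActR

universe u

/-- **nmax** -/
theorem Sit.nmax {X M : Type u} {W : Type*} [Group X] [Finite X] [CommGroup M] [Finite M] [MulDistribMulAction X M]
    [CommGroup W] [Finite W] [MulDistribMulAction X W] {T B : Subgroup X} {p : W →* M} (h : Sit T B p) :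
    ¬ ∃ N : Subgroup X, N ≠ ⊤ ∧ ∀ R : Subgroup X, T ≤ R → R ≠ ⊤ → R ≤ N :=
  Sit.nmax_of FF.Glob.aStmt h

/-- generation by one vector -/
theorem gen_of {X M : Type*} [Group X] [CommGroup M] [MulDistribMulAction X M] {T : Subgroup X} {m₀ : M}
    (h0 : ∀ t ∈ T, t • m₀ = m₀)
    (gen : ∀ U : Subgroup M, (∀ x : X, ∀ u ∈ U, x • u ∈ U) → m₀ ∈ U → U = ⊤) (U : Subgroup M)
    (hU : ∀ m : M, (∀ t ∈ T, t • m = m) → ∀ x : X, x • m ∈ U) : U = ⊤ := by
  -- the largest invariant subgroup of `U`
  let U' : Subgroup M :=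
    { carrier := {m | ∀ x : X, x • m ∈ U}
      one_mem' := fun x => by rw [smul_one]; exact U.one_mem
      mul_mem' := fun {a b} ha hb x => by rw [smul_mul']; exact U.mul_mem (ha x) (hb x)
      inv_mem' := fun {a} ha x => by rw [smul_inv']; exact U.inv_mem (ha x) }
  have h1 := gen U' (fun x u hu z => by
    have := hu (z * x)
    rwa [mul_smul] at this) fun x => hU m₀ h0 x
  rw [eq_top_iff]
  intro m _
  have h2 : m ∈ U' := by rw [h1]; exact Subgroup.mem_top _
  have h3 := h2 1
  rwa [one_smul] at h3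

end Cfsg.Agent.Omega.FOne.ActR

end

section


/-!
# (F1), the minimal parabolic case, additive form with a group acting

`X` acts on the `𝔽₂`-space `W` and fixes `R ≤ W`, `C_W(T) ≤ R`, `W / R = ⟨θ^X⟩` with `θ` fixed by `T` modulo `R`.
-/

set_option autoImplicit false
set_option linter.unusedSectionVars false

namespace Cfsg.Agent.Omega.FOne.ActR

open Subgroup
open Cfsg.Agent.ClassTwoFusion.Quad (cv mem_cv)

universe u

section

variable {X W : Type*} [Group X] [AddCommGroup W] [DistribMulAction X W]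

/-- `X` acts on `W`, written multiplicatively -/
@[reducible] def mact (X W : Type*) [Group X] [AddCommGroup W] [DistribMulAction X W] :
    MulDistribMulAction X (Multiplicative W) where
  smul x v := Multiplicative.ofAdd (x • Multiplicative.toAdd v)
  one_smul v := congrArg Multiplicative.ofAdd (one_smul X (Multiplicative.toAdd v))
  mul_smul a b v := congrArg Multiplicative.ofAdd (mul_smul a b (Multiplicative.toAdd v))
  smul_mul x a b := congrArg Multiplicative.ofAdd (smul_add x (Multiplicative.toAdd a) (Multiplicative.toAdd b))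
  smul_one x := congrArg Multiplicative.ofAdd (smul_zero x)

theorem qle {R : AddSubgroup W} (hR : ∀ (x : X), ∀ r ∈ R, x • r = r) (x : X) :
    R ≤ R.comap (DistribSMul.toAddMonoidHom W x) := by
  intro r hr
  rw [AddSubgroup.mem_comap]
  change x • r ∈ R
  rw [hR x r hr]; exact hr

/-- `X` acts on `W / R`, written multiplicatively -/
@[reducible] def qact {R : AddSubgroup W} (hR : ∀ (x : X), ∀ r ∈ R, x • r = r) :
    MulDistribMulAction X (Multiplicative (W ⧸ R)) where
  smul x v := Multiplicative.ofAdd (QuotientAddGroup.map R R (DistribSMul.toAddMonoidHom W x) (qle hR x)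
    (Multiplicative.toAdd v))
  one_smul v := by
    obtain ⟨w, hw⟩ := QuotientAddGroup.mk_surjective (Multiplicative.toAdd v)
    obtain rfl : Multiplicative.ofAdd (QuotientAddGroup.mk w) = v := congrArg Multiplicative.ofAdd hw
    change Multiplicative.ofAdd (QuotientAddGroup.mk ((1 : X) • w)) = _
    rw [one_smul]
  mul_smul g h v := by
    obtain ⟨w, hw⟩ := QuotientAddGroup.mk_surjective (Multiplicative.toAdd v)
    obtain rfl : Multiplicative.ofAdd (QuotientAddGroup.mk w) = v := congrArg Multiplicative.ofAdd hw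
    change Multiplicative.ofAdd (QuotientAddGroup.mk ((g * h) • w)) = _
    rw [mul_smul]
    rfl
  smul_mul g v w := by
    change Multiplicative.ofAdd (QuotientAddGroup.map R R _ (qle hR g)
      (Multiplicative.toAdd v + Multiplicative.toAdd w)) = _
    rw [map_add]
    rfl
  smul_one g := by
    change Multiplicative.ofAdd (QuotientAddGroup.map R R _ (qle hR g) 0) = _
    rw [map_zero]
    rfl

/-- the projection `W → W / R` -/
def qmap (R : AddSubgroup W) : Multiplicative W →* Multiplicative (W ⧸ R) :=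
  AddMonoidHom.toMultiplicative (QuotientAddGroup.mk' R)

theorem qmap_surj (R : AddSubgroup W) : Function.Surjective (qmap R) := fun v => by
  obtain ⟨w, hw⟩ := QuotientAddGroup.mk_surjective (Multiplicative.toAdd v)
  exact ⟨Multiplicative.ofAdd w, congrArg Multiplicative.ofAdd hw⟩

theorem qmap_eq (two : ∀ w : W, w + w = 0) {R : AddSubgroup W} {a b : W} :
    qmap R (Multiplicative.ofAdd a) = qmap R (Multiplicative.ofAdd b) ↔ a + b ∈ R := by
  have h1 : qmap R (Multiplicative.ofAdd a) = qmap R (Multiplicative.ofAdd b) ↔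
      (QuotientAddGroup.mk a : W ⧸ R) = QuotientAddGroup.mk b := Iff.rfl
  rw [h1, QuotientAddGroup.eq]
  have h2 : -a = a := neg_eq_of_add_eq_zero_left (two a)
  rw [h2]

theorem qmap_one {R : AddSubgroup W} {a : W} : qmap R (Multiplicative.ofAdd a) = 1 ↔ a ∈ R :=
  QuotientAddGroup.eq_zero_iff a

/-- the preimage in `W` of the fixed points of `B` on `W / R` -/
def cmA (two : ∀ w : W, w + w = 0) (R : AddSubgroup W) (B : Subgroup X) : AddSubgroup W where
  carrier := {w | ∀ b ∈ B, b • w + w ∈ R}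
  zero_mem' := fun b _ => by rw [smul_zero, add_zero]; exact R.zero_mem
  add_mem' := fun {a b} ha hb x hx => by
    have e1 : x • (a + b) + (a + b) = (x • a + a) + (x • b + b) := by rw [smul_add]; abel
    rw [e1]; exact R.add_mem (ha x hx) (hb x hx)
  neg_mem' := fun {a} ha x hx => by
    have h2 : -a = a := neg_eq_of_add_eq_zero_left (two a)
    rw [h2]; exact ha x hx

theorem index_eq (two : ∀ w : W, w + w = 0) {R : AddSubgroup W} (hR : ∀ (x : X), ∀ r ∈ R, x • r = r)
    (B : Subgroup X) {C : AddSubgroup W} (hC : ∀ w, w ∈ C ↔ ∀ b ∈ B, b • w + w ∈ R) :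
    letI := qact hR
    (cv (Multiplicative (W ⧸ R)) (B : Set X)).index = C.index := by
  let _ := qact hR
  have h1 := Subgroup.index_comap_of_surjective (cv (Multiplicative (W ⧸ R)) (B : Set X)) (qmap_surj R)
  rw [← h1]
  have h2 : (cv (Multiplicative (W ⧸ R)) (B : Set X)).comap (qmap R) = AddSubgroup.toSubgroup C := by
    ext w
    obtain ⟨w, rfl⟩ := Multiplicative.ofAdd.surjective w
    rw [mem_comap, mem_cv]
    constructor
    · intro h3
      exact (hC w).2 fun b hb => (qmap_eq two).1 (h3 b hb)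
    · intro h3 a ha
      exact (qmap_eq two).2 ((hC w).1 h3 a ha)
  rw [h2]
  rfl

end

/-- **nmax**, additive form -/
theorem no_minR {X W : Type u} [Group X] [Finite X] [AddCommGroup W] [Finite W] [DistribMulAction X W]
    {R : AddSubgroup W} {θ : W} {T B : Subgroup X} (cm : Subgroup X → AddSubgroup W)
    (hcm : ∀ C w, w ∈ cm C ↔ ∀ b ∈ C, b • w + w ∈ R) (two : ∀ w : W, w + w = 0)
    (fixR : ∀ (x : X), ∀ r ∈ R, x • r = r) (faith : ∀ x : X, (∀ w, x • w + w ∈ R) → x = 1)
    (T2 : IsPGroup 2 T) (syl : ¬ 2 ∣ T.index) (fixT : ∀ w : W, (∀ t ∈ T, t • w = w) → w ∈ R)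
    (Tθ : ∀ t ∈ T, t • θ + θ ∈ R)
    (gen : ∀ U : AddSubgroup W, R ≤ U → (∀ x : X, x • θ ∈ U) → U = ⊤) (BT : B ≤ T) (sq : ∀ b ∈ B, b * b = 1)
    (four : 4 ≤ Nat.card B) (exact : (cm B).index = Nat.card B)
    (atom : ∀ C : Subgroup X, C ≤ B → C ≠ ⊥ → C ≠ B → Nat.card C < (cm C).index) :
    ¬ ∃ N : Subgroup X, N ≠ ⊤ ∧ ∀ Q : Subgroup X, T ≤ Q → Q ≠ ⊤ → Q ≤ N := by
  classical
  let i1 := mact X W
  let i2 := qact fixR
  have hfinM : Finite (Multiplicative (W ⧸ R)) := inferInstanceAs (Finite (W ⧸ R))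
  have hfinW : Finite (Multiplicative W) := inferInstanceAs (Finite W)
  have hsm : ∀ (x : X) (w : W), x • qmap R (Multiplicative.ofAdd w) = qmap R (Multiplicative.ofAdd (x • w)) :=
    fun x w => rfl
  have hTθ : ∀ t ∈ T, t • qmap R (Multiplicative.ofAdd θ) = qmap R (Multiplicative.ofAdd θ) := fun t ht => by
    rw [hsm, qmap_eq two]; exact Tθ t ht
  have hgen : ∀ U : Subgroup (Multiplicative (W ⧸ R)), (∀ x : X, ∀ u ∈ U, x • u ∈ U) →
      qmap R (Multiplicative.ofAdd θ) ∈ U → U = ⊤ := by
    intro U hU hθ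
    have h1 := gen (Subgroup.toAddSubgroup' (U.comap (qmap R))) (fun r hr => by
      change qmap R (Multiplicative.ofAdd r) ∈ U
      rw [qmap_one.2 hr]; exact U.one_mem) fun x => hU x _ hθ
    rw [eq_top_iff]
    intro m _
    obtain ⟨w, rfl⟩ := qmap_surj R m
    obtain ⟨w, rfl⟩ := Multiplicative.ofAdd.surjective w
    have h2 : w ∈ Subgroup.toAddSubgroup' (U.comap (qmap R)) := by rw [h1]; exact AddSubgroup.mem_top _
    exact h2
  have hs : Sit T B (qmap R) :=
    { sq := fun w => congrArg Multiplicative.ofAdd (two (Multiplicative.toAdd w))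
      eqv := fun x w => rfl
      surj := qmap_surj R
      ker := fun w hw x => congrArg Multiplicative.ofAdd (fixR x _ (qmap_one.1 hw))
      faith := fun x hx => faith x fun w => (qmap_eq two).1 (hx (qmap R (Multiplicative.ofAdd w)))
      core := by
        intro N hN hN2
        -- `N ≤ T`
        let S : Sylow 2 X := T2.toSylow syl
        have hNT : N ≤ T := by
          obtain ⟨P, hP⟩ := hN2.exists_le_sylow
          obtain ⟨g, hg⟩ := MulAction.exists_smul_eq X P S
          intro n hn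
          have h1 : g * n * g⁻¹ ∈ N := hN.conj_mem n hn g
          have h2 : g⁻¹ * n * g ∈ N := by
            have := hN.conj_mem n hn g⁻¹
            rwa [inv_inv] at this
          have h3 : g⁻¹ * n * g ∈ P := hP h2
          have h4 : n ∈ (g • P : Sylow 2 X) := by
            change n ∈ ((g • P : Sylow 2 X) : Subgroup X)
            rw [Sylow.coe_subgroup_smul, Subgroup.mem_pointwise_smul_iff_inv_smul_mem]
            rw [← map_inv, MulAut.smul_def, MulAut.conj_apply, inv_inv]
            exact h3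
          rw [hg] at h4
          exact h4
        have hfx : ∀ n ∈ N, ∀ m : Multiplicative (W ⧸ R), n • m = m := by
          intro n hn m
          let U : Subgroup (Multiplicative (W ⧸ R)) :=
            { carrier := {m | ∀ n ∈ N, n • m = m}
              one_mem' := fun n _ => smul_one n
              mul_mem' := fun {a b} ha hb n hn => by rw [smul_mul', ha n hn, hb n hn]
              inv_mem' := fun {a} ha n hn => by rw [smul_inv', ha n hn] }
          have hU : U = ⊤ := hgen U (fun x u hu n hn => by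
            have h5 : x⁻¹ * n * x ∈ N := by
              have := hN.conj_mem n hn x⁻¹
              rwa [inv_inv] at this
            have h6 := congrArg (fun z => x • z) (hu _ h5)
            simp only [smul_smul] at h6
            rw [smul_smul]
            have e2 : x * (x⁻¹ * n * x) = n * x := by group
            rw [e2] at h6
            exact h6) fun n hn => hTθ n (hNT hn)
          have h7 : m ∈ U := by rw [hU]; exact mem_top _
          exact h7 n hn
        rw [eq_bot_iff]
        intro n hn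
        rw [mem_bot]
        refine faith n fun w => ?_
        rw [← qmap_eq two, ← hsm]
        exact hfx n hn _
      two := T2
      syl := syl
      fixT := fun w hw => qmap_one.2 (fixT (Multiplicative.toAdd w) fun t ht => congrArg Multiplicative.toAdd (hw t ht))
      gen := gen_of hTθ hgen
      BT := BT
      el := sq
      four := four
      exact := by rw [index_eq two fixR B (hcm B)]; exact exact
      atom := fun C h1 h2 h3 => by rw [index_eq two fixR C (hcm C)]; exact atom C h1 h2 h3 }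
  exact hs.nmax

end Cfsg.Agent.Omega.FOne.ActR

end

end

-- merged: Cfsg.Agent.Mrg.Omega.FOne.QR.Nmax
section

/-!
# (F1), the K-route for `R` of any size: (nmax)

`FsR.nmax` : in the faithful section `T` is in at least two maximal subgroups of `X`.
-/

set_option autoImplicit false

namespace Cfsg.Agent.Omega.FOne.QR

open Subgroup Cfsg Cfsg.Agent.ZN

universe u

variable {X : Type u} [Group X] {W : Type u} [AddCommGroup W] [DistribMulAction X W]

/-- **(nmax)** -/
theorem FsR.nmax {R : AddSubgroup W} {θ : W} {T B : Subgroup X} (F : FsR R θ T B) :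
    ¬ ∃ N : Subgroup X, N ≠ ⊤ ∧ ∀ Q : Subgroup X, T ≤ Q → Q ≠ ⊤ → Q ≤ N := by
  have := F.finX
  have := F.finW
  exact ActR.no_minR (cmR R) (fun _ _ => Iff.rfl) F.two F.fixR F.faith F.T2 F.syl F.fixT F.Tθ F.gen F.BT F.sq
    F.four F.exact F.atom

/-- **(nmax)**, the form of the request -/
theorem FsR.false_of_max {R : AddSubgroup W} {θ : W} {T B : Subgroup X} (F : FsR R θ T B) (M0 : Subgroup X)
    (hM : M0 ≠ ⊤) (h : ∀ Q : Subgroup X, T ≤ Q → Q ≠ ⊤ → Q ≤ M0) : False :=
  F.nmax ⟨M0, hM, h⟩

end Cfsg.Agent.Omega.FOne.QR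

end

-- merged: Cfsg.Agent.Mrg.Omega.FOne.QR.PsR
section

/-!
# (F1), the K-route for `R` of any size: from the faithful section to `PsR` (helper69)

* `wactR` : `X` acts on `Multiplicative W`;
* `psR_of` : `FsR` and (LA) give helper854's `PsR`;
* **`SwR.false`** : `SwR`, `AtR` are contradictory, given (ML) and the pieces behind `PsR`.
-/

set_option autoImplicit false
set_option linter.unusedSectionVars false

namespace Cfsg.Agent.Omega.FOne.QR

open Subgroup Cfsg Cfsg.Agent.ZN Cfsg.Agent.Omega.NOThree.NoOver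
open Cfsg.Agent.ClassTwoFusion.Quad (cv mem_cv)
open Cfsg.Agent.Omega.ML.Ex (LA PsR EndPieces)

universe u

variable {X : Type u} [Group X] {W : Type u} [AddCommGroup W] [DistribMulAction X W]

/-- `X` acts on `W`, written multiplicatively -/
@[reducible] def wactR (X : Type u) [Group X] (W : Type u) [AddCommGroup W] [DistribMulAction X W] :
    MulDistribMulAction X (Multiplicative W) where
  smul x v := Multiplicative.ofAdd (x • Multiplicative.toAdd v)
  one_smul v := by
    change Multiplicative.ofAdd ((1 : X) • Multiplicative.toAdd v) = v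
    rw [one_smul]; rfl
  mul_smul x y v := by
    change Multiplicative.ofAdd ((x * y) • Multiplicative.toAdd v) =
      Multiplicative.ofAdd (x • (y • Multiplicative.toAdd v))
    rw [mul_smul]
  smul_mul x v w := by
    change Multiplicative.ofAdd (x • (Multiplicative.toAdd v + Multiplicative.toAdd w)) = _
    rw [smul_add]; rfl
  smul_one x := by
    change Multiplicative.ofAdd (x • (0 : W)) = 1
    rw [smul_zero]; rfl

section conj

variable {R : AddSubgroup W} {B : Subgroup X}

theorem mem_cj_iff {G : Type*} [Group G] {g : G} {C : Subgroup G} {x : G} : x ∈ cj g C ↔ ∃ c ∈ C, x = g * c * g⁻¹ := by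
  constructor
  · rintro ⟨c, hc, rfl⟩
    exact ⟨c, hc, rfl⟩
  · rintro ⟨c, hc, rfl⟩
    exact ⟨c, hc, rfl⟩

theorem card_cj {G : Type*} [Group G] (g : G) (C : Subgroup G) : Nat.card (cj g C) = Nat.card C :=
  Nat.card_congr (C.equivMapOfInjective _ (MulAut.conj g).injective).symm.toEquiv

theorem index_cmR_cj (b : Bs X R) (g : X) (C : Subgroup X) : (cmR R (cj g C)).index = (cmR R C).index := by
  have h1 : (cmR R (cj g C)).comap (DistribSMul.toAddMonoidHom W g) = cmR R C := by
    ext w
    rw [AddSubgroup.mem_comap, DistribSMul.toAddMonoidHom_apply, mem_cmR, mem_cmR]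
    constructor
    · intro h c hc
      have h2 := h _ (mem_cj_iff.2 ⟨c, hc, rfl⟩)
      have e : (g * c * g⁻¹) • g • w + g • w = g • (c • w + w) := by
        rw [smul_add, mul_smul, mul_smul, inv_smul_smul]
      rw [e] at h2
      have h3 := b.fixR g⁻¹ _ h2
      rw [inv_smul_smul] at h3
      rw [h3]; exact h2
    · intro h x hx
      obtain ⟨c, hc, rfl⟩ := mem_cj_iff.1 hx
      have e : (g * c * g⁻¹) • g • w + g • w = g • (c • w + w) := by
        rw [smul_add, mul_smul, mul_smul, inv_smul_smul]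
      rw [e, b.fixR g _ (h c hc)]
      exact h c hc
  rw [← h1]
  exact (AddSubgroup.index_comap_of_surjective _ (MulAction.surjective g)).symm

theorem cj_cj_inv {G : Type*} [Group G] (g : G) (C : Subgroup G) : cj g (cj g⁻¹ C) = C := by
  ext x
  rw [mem_cj_iff]
  constructor
  · rintro ⟨c, hc, rfl⟩
    obtain ⟨d, hd, rfl⟩ := mem_cj_iff.1 hc
    have e : g * (g⁻¹ * d * g⁻¹⁻¹) * g⁻¹ = d := by group
    rwa [e]
  · intro hx
    exact ⟨g⁻¹ * x * g⁻¹⁻¹, mem_cj_iff.2 ⟨x, hx, rfl⟩, by group⟩

theorem cj_inv_cj {G : Type*} [Group G] (g : G) (C : Subgroup G) : cj g⁻¹ (cj g C) = C := by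
  have := cj_cj_inv g⁻¹ C
  rwa [inv_inv] at this

/-- a conjugate of an atom -/
theorem atR_cj (b : Bs X R) (g : X) {N : Subgroup X} (hN : cj g B ≤ N) (sq : ∀ c ∈ B, c * c = 1)
    (quad : ∀ a ∈ B, ∀ c ∈ B, ∀ w : W, a • (c • w + w) + (c • w + w) ∈ R) (four : 4 ≤ Nat.card B)
    (exact_ : (cmR R B).index = Nat.card B)
    (atom : ∀ C : Subgroup X, C ≤ B → C ≠ ⊥ → C ≠ B → Nat.card C < (cmR R C).index) : AtR R N (cj g B) where
  BN := hN
  sq := by
    intro x hx
    obtain ⟨c, hc, rfl⟩ := mem_cj_iff.1 hx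
    have e : g * c * g⁻¹ * (g * c * g⁻¹) = g * (c * c) * g⁻¹ := by group
    rw [e, sq c hc]; group
  quad := by
    intro x hx y hy w
    obtain ⟨a, ha, rfl⟩ := mem_cj_iff.1 hx
    obtain ⟨c, hc, rfl⟩ := mem_cj_iff.1 hy
    have h1 := quad a ha c hc (g⁻¹ • w)
    have e1 : (g * c * g⁻¹) • w + w = g • (c • g⁻¹ • w + g⁻¹ • w) := by
      rw [smul_add, smul_inv_smul, mul_smul, mul_smul]
    have e2 : (g * a * g⁻¹) • (g • (c • g⁻¹ • w + g⁻¹ • w)) + g • (c • g⁻¹ • w + g⁻¹ • w) =
        g • (a • (c • g⁻¹ • w + g⁻¹ • w) + (c • g⁻¹ • w + g⁻¹ • w)) := by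
      generalize c • g⁻¹ • w + g⁻¹ • w = v
      rw [smul_add, mul_smul, mul_smul, inv_smul_smul]
    rw [e1, e2, b.fixR g _ h1]
    exact h1
  four := by rw [card_cj]; exact four
  exact := by rw [index_cmR_cj b, card_cj]; exact exact_
  atom := by
    intro C hC hC1 hCB
    have h1 : cj g⁻¹ C ≤ B := by
      have h2 : cj g⁻¹ C ≤ cj g⁻¹ (cj g B) := map_mono hC
      rwa [cj_inv_cj] at h2
    have h2 := atom (cj g⁻¹ C) h1 (fun h => hC1 ?_) (fun h => hCB ?_)
    · rwa [card_cj, index_cmR_cj b] at h2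
    · rw [← cj_cj_inv g C, h]
      exact map_bot _
    · rw [← cj_cj_inv g C, h]

end conj

/-- exactness on `W / R` -/
theorem index_cv_eq {R : AddSubgroup W} (two : ∀ w : W, w + w = 0) (hR : ∀ x : X, ∀ r ∈ R, x • r = r) (C : Subgroup X) :
    letI := act (X := X) hR
    (cv (MR R) (C : Set X)).index = (cmR R C).index := by
  letI := act (X := X) hR
  have h1 := Subgroup.index_comap_of_surjective (cv (MR R) (C : Set X)) (mkH_surj R)
  rw [← h1]
  have h2 : (cv (MR R) (C : Set X)).comap (mkH R) = AddSubgroup.toSubgroup (cmR R C) := by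
    ext w
    rw [mem_comap, mem_cv]
    change (∀ a ∈ (C : Set X), a • mk R (Multiplicative.toAdd w) = mk R (Multiplicative.toAdd w)) ↔
      Multiplicative.toAdd w ∈ cmR R C
    rw [mem_cmR]
    constructor
    · intro h3 a ha
      exact (mk_eq' two).1 (h3 a ha)
    · intro h3 a ha
      exact (mk_eq' two).2 (h3 a ha)
  rw [h2]
  rfl

/-- **`FsR` and (LA) give `PsR`.** -/
theorem psR_of {R : AddSubgroup W} {θ : W} {T B : Subgroup X} (F : FsR R θ T B) (hL : LaR R θ T) :
    letI := act (X := X) F.fixR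
    letI := wactR X W
    PsR (X := X) (M := MR R) (W := Multiplicative W) T B (mkH R) (mk R θ) := by
  classical
  letI := act (X := X) F.fixR
  letI := wactR X W
  have hfX := F.finX
  have hfW := F.finW
  have b : Bs X R := ⟨F.two, F.fixR⟩
  have hsm : ∀ (x : X) (w : W), x • mk R w = mk R (x • w) := fun _ _ => rfl
  have hwm : ∀ (x : X) (w : Multiplicative W), x • w = Multiplicative.ofAdd (x • Multiplicative.toAdd w) :=
    fun _ _ => rfl
  have hp : ∀ w : Multiplicative W, mkH R w = mk R (Multiplicative.toAdd w) := fun _ => rfl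
  have hmi : ∀ w : W, (mk R w)⁻¹ = mk R w := by
    intro w
    rw [inv_eq_iff_mul_eq_one, ← mk_add, F.two, mk_zero]
  refine
    { known := F.known
      sq := fun w => congrArg Multiplicative.ofAdd (F.two (Multiplicative.toAdd w))
      eqv := fun x w => rfl
      surj := mkH_surj R
      ker := fun w hw x => ?_
      faith := fun x hx => F.faith x fun w => (mk_eq' F.two).1 (hx (mk R w))
      core := ?_
      two := F.T2
      syl := F.syl
      fixT := fun w hw => ?_
      gen := ?_
      BT := F.BT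
      el := F.sq
      quad := ?_
      four := F.four
      exact := ?_
      atom := ?_
      low := F.low
      nmax := F.nmax
      la := ⟨fun t ht => (mk_eq' F.two).2 (F.Tθ t ht), fun h => F.θR (mk_one.1 h), ?_⟩ }
  · rw [hp, mk_one] at hw
    rw [hwm, F.fixR x _ hw]; rfl
  · intro N hN hN2
    have : Fact (Nat.Prime 2) := ⟨Nat.prime_two⟩
    have h1 : IsPGroup 2 (T ⊔ N : Subgroup X) := F.T2.to_sup_of_normal_right hN2
    have h2 : T ⊔ N = T := (F.T2.toSylow F.syl).is_maximal' h1 le_sup_left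
    have hNT : N ≤ T := le_sup_right.trans h2.le
    rw [eq_bot_iff]
    intro n hn
    rw [mem_bot]
    refine F.faith n fun w => ?_
    have h3 : n ∈ kk b (sp R (⊤ : Subgroup X) θ) := by
      rw [mem_kk_sp]
      intro x _
      have h4 : x⁻¹ * n * x ∈ N := by
        have := hN.conj_mem n hn x⁻¹
        rwa [inv_inv] at this
      have h5 := F.Tθ _ (hNT h4)
      have e : n • x • θ + x • θ = x • ((x⁻¹ * n * x) • θ + θ) := by
        rw [smul_add, mul_smul, mul_smul, smul_inv_smul]
      rw [e, F.fixR x _ h5]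
      exact h5
    have h4 : sp R (⊤ : Subgroup X) θ = ⊤ := F.gen _ (le_sp R _ θ) fun x => smul_mem_sp' R θ (mem_top x)
    rw [h4] at h3
    exact h3 w (AddSubgroup.mem_top w)
  · rw [hp, mk_one]
    exact F.fixT _ fun t ht => congrArg Multiplicative.toAdd (hw t ht)
  · intro U hU hθ
    rw [eq_top_iff]
    intro m _
    obtain ⟨w, rfl⟩ := mk_surj m
    let V : AddSubgroup W :=
      { carrier := {w | mk R w ∈ U}
        zero_mem' := by
          change mk R 0 ∈ U
          rw [mk_zero]; exact U.one_mem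
        add_mem' := by
          intro v w hv hw
          change mk R (v + w) ∈ U
          rw [mk_add]; exact U.mul_mem hv hw
        neg_mem' := by
          intro w hw
          change mk R (-w) ∈ U
          have : mk R (-w) = (mk R w)⁻¹ := rfl
          rw [this]; exact U.inv_mem hw }
    have h1 : V = ⊤ := by
      refine F.gen V ?_ ?_
      · intro r hr
        change mk R r ∈ U
        rw [mk_one.2 hr]; exact U.one_mem
      · intro x
        exact hU x _ hθ
    have h2 : w ∈ V := by rw [h1]; exact AddSubgroup.mem_top w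
    exact h2
  · intro a ha c hc m
    obtain ⟨w, rfl⟩ := mk_surj m
    rw [hmi, hsm, ← mk_add, hsm, mk_eq' F.two]
    exact F.quad c hc a ha w
  · rw [index_cv_eq F.two F.fixR]
    exact F.exact
  · intro C hC hC1 hCB
    rw [index_cv_eq F.two F.fixR]
    exact F.atom C hC hC1 hCB
  · intro g hg Q hTQ hQ
    refine hL (MulAction.stabilizer X (mk R θ)) (fun x => ?_) (cj g B) ?_ Q hTQ hQ
    · rw [MulAction.mem_stabilizer_iff, hsm, mk_eq' F.two]
    · exact atR_cj b g hg F.sq F.quad F.four F.exact F.atom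

/-- **`FsR` with (LA) is impossible.** -/
theorem fsR_no {R : AddSubgroup W} {θ : W} {T B : Subgroup X} (hE : EndPieces.{u, u, u}) (F : FsR R θ T B)
    (hL : LaR R θ T) : False := by
  letI := act (X := X) F.fixR
  letI := wactR X W
  have hfX := F.finX
  have hfW := F.finW
  have : Finite (MR R) := Finite.of_surjective (mkH R) (mkH_surj R)
  have : Finite (Multiplicative W) := hfW
  exact hE.false (psR_of F hL)

/-- **`SwR` with an atom of order at least 4 is impossible.** -/
theorem SwR.false {R : AddSubgroup W} {θ : W} {T N B : Subgroup X} (hML : ML.Final.MLK.{u, u})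
    (hE : EndPieces.{u, u, u}) (S : SwR R θ T N) (hB : AtR R N B) : False := by
  obtain ⟨X', _, W', _, _, R', θ', T', B', F, hL⟩ := S.exists_fs hML hB
  exact fsR_no hE F hL

end Cfsg.Agent.Omega.FOne.QR

end

-- merged: Cfsg.Agent.Mrg.Omega.FOne.QR.Plug
section

/-!
# (F1) for `q ≥ 4`, every stage (helper69)

`fOneR : MLK → EndPieces → FarB.FOneR`, `fOneB : MLK → EndPieces → NO3S.FOneB K` (over helper232's `front`, helper241's
`fOneB_of_R`, helper425's THEOREM A, helper728's nmax, helper854's `EndPieces`).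
-/

set_option autoImplicit false

namespace Cfsg.Agent.Omega.FOne.QR

open Cfsg
open Cfsg.Agent.Omega.ML.Ex (EndPieces)

universe u

/-- **(F1), abstract form, `R` of any order.** -/
theorem fOneR (hML : ML.Final.MLK.{u, u}) (hE : EndPieces.{u, u, u}) : NO3S.FarB.FOneR.{u} := by
  intro H W M _ _ _ _ _ T A V R π P
  obtain ⟨W', _, _, R', θ, N, B, S, hB⟩ := front hML P
  exact S.false hML hE hB

/-- **(F1) for `q ≥ 4`, every stage.** -/
theorem fOneB {K : Frame.Cls.{u}} (hML : ML.Final.MLK.{u, u}) (hE : EndPieces.{u, u, u}) : NO3S.FOneB K :=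
  NO3S.FarB.fOneB_of_R hML (fOneR hML hE)

end Cfsg.Agent.Omega.FOne.QR

end
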